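import Groth.Agent.ProjGen7.Transport
import Mathlib.RingTheory.Flat.TorsionFree
import Mathlib.RingTheory.DedekindDomain.Dvr
import Mathlib.AlgebraicGeometry.Morphisms.Flat
import Mathlib.AlgebraicGeometry.Morphisms.FinitePresentation

/-!
# `P^r_Y ⟶ Y` is flat and locally of finite presentation
-/

set_option linter.style.haveILetI false
set_option backward.isDefEq.respectTransparency false

universe u

open CategoryTheory CategoryTheory.Limits AlgebraicGeometry
open HomogeneousLocalization (Away)

noncomputable section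

namespace Groth.Agent.ProjGen7

attribute [local instance] MvPolynomial.gradedAlgebra

theorem flat_toSpec_int (n : ℕ) : Flat (CohB1.ProjSpace.toSpec n (ULift.{u} ℤ)) := by
  refine IsZariskiLocalAtSource.of_iSup_eq_top
    (fun j => (Proj.awayι (CohB1.polyGrading n (ULift.{u} ℤ)) (coord' n _ j) (coord'_mem n _ j) Nat.one_pos).opensRange) ?_ fun j => ?_
  · simp_rw [Proj.opensRange_awayι]
    exact iSup_coord' n _
  rw [← Scheme.Hom.isoOpensRange_inv_comp, Category.assoc]
  have h : Flat (Proj.awayι (CohB1.polyGrading n (ULift.{u} ℤ)) (coord' n _ j) (coord'_mem n _ j) Nat.one_pos ≫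
      CohB1.ProjSpace.toSpec n (ULift.{u} ℤ)) := by
    show Flat (Proj.awayι _ _ _ _ ≫ Proj.toSpecZero _ ≫ Spec.map _)
    rw [← Category.assoc, Proj.awayι_toSpecZero, ← Spec.map_comp, HasRingHomProperty.Spec_iff (P := @Flat)]
    haveI : IsDomain (ULift.{u} ℤ) := ULift.ringEquiv.toMulEquiv.isDomain ℤ
    let L := Localization (Submonoid.powers (coord' n (ULift.{u} ℤ) j))
    haveI : IsDomain L := IsLocalization.isDomain_localization
      (powers_le_nonZeroDivisors_of_noZeroDivisors (MvPolynomial.X_ne_zero _))
    haveI : CharZero (ULift.{u} ℤ) := ⟨fun a b h => by simpa using congrArg ULift.down h⟩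
    haveI : CharZero L := charZero_of_injective_ringHom
      (f := (algebraMap _ L).comp MvPolynomial.C) ((IsLocalization.injective L (M := Submonoid.powers (coord' n (ULift.{u} ℤ) j)) (powers_le_nonZeroDivisors_of_noZeroDivisors (MvPolynomial.X_ne_zero _))).comp
        (MvPolynomial.C_injective (Fin (n + 1)) (ULift.{u} ℤ)))
    let B := Away (CohB1.polyGrading n (ULift.{u} ℤ)) (coord' n (ULift.{u} ℤ) j)
    haveI : CharZero B := ⟨fun a b h => by
      have := congrArg (algebraMap B L) h
      rw [map_natCast, map_natCast] at this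
      exact Nat.cast_injective this⟩
    haveI : IsDomain B := (HomogeneousLocalization.val_injective _).isDomain (algebraMap B L)
    have hB : (Int.castRingHom B).Flat := RingHom.flat_algebraMap_iff.2 (inferInstance : Module.Flat ℤ B)
    have key : ∀ φ : ULift.{u} ℤ →+* B, φ.Flat := fun φ => by
      rw [show φ = (Int.castRingHom B).comp (ULift.ringEquiv.toRingHom) from
        ProjX.zto_unique _ _]
      exact RingHom.Flat.comp (RingHom.Flat.of_bijective ULift.ringEquiv.bijective) hB
    exact key _
  haveI := h
  infer_instance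

instance flat_toBase (n : ℕ) (Y : Scheme.{u}) : Flat (CohB1.ProjSpaceOver.toBase n Y) :=
  MorphismProperty.of_isPullback (IsPullback.of_hasPullback (CohB1.ProjSpace.toSpec n (ULift.{u} ℤ))
    (specULiftZIsTerminal.from Y)) (flat_toSpec_int n)

theorem lfp_of_lft {X Y : Scheme.{u}} (f : X ⟶ Y) [IsLocallyNoetherian Y] [h : LocallyOfFiniteType f] :
    LocallyOfFinitePresentation f := by
  rw [HasRingHomProperty.iff_appLE (P := @LocallyOfFinitePresentation)]
  intro U V e
  haveI : IsNoetherianRing Γ(Y, U) := IsLocallyNoetherian.component_noetherian U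
  exact (RingHom.FinitePresentation.of_finiteType).1 (HasRingHomProperty.appLE @LocallyOfFiniteType f h U V e)

instance lfp_toBase (n : ℕ) (Y : Scheme.{u}) :
    LocallyOfFinitePresentation (CohB1.ProjSpaceOver.toBase n Y) :=
  haveI := PnCoh.Chow.isProper_toSpec n (ULift.{u} ℤ)
  haveI : IsNoetherianRing (ULift.{u} ℤ) := isNoetherianRing_of_ringEquiv ℤ ULift.ringEquiv.symm
  MorphismProperty.of_isPullback (IsPullback.of_hasPullback (CohB1.ProjSpace.toSpec n (ULift.{u} ℤ))
    (specULiftZIsTerminal.from Y)) (lfp_of_lft _)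

end Groth.Agent.ProjGen7
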