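import Groth.Agent.ProjGen7.Detect
import Groth.Agent.PnCoh.TwistQCoh
import Groth.Agent.PnCoh.Finite.HomGlue
import Mathlib.AlgebraicGeometry.ProjectiveSpectrum.Proper

/-!
# Nonpositive twists detect objects with quasi-coherent cohomology on `Proj`
-/

set_option linter.style.haveILetI false

universe u

open CategoryTheory CategoryTheory.Limits AlgebraicGeometry TopologicalSpace Opposite

attribute [local instance] HasDerivedCategory.standard

noncomputable section

namespace Groth.Agent.ProjGen7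

open Groth.Agent.KFlatLib Groth.Agent.PnCoh Groth.Agent.PnCoh.Finite

variable {R A : Type u} [CommRing R] [CommRing A] [Algebra R A]
  {𝒜 : ℕ → Submodule R A} [GradedAlgebra 𝒜] {κ : Type u} [Finite κ] {f : κ → A}

/-- The twists `O(-k)` are a test family. -/
theorem testFam_twist (hf : ∀ i, f i ∈ 𝒜 1) (hcov : ⨆ j, Finite.D 𝒜 (f j) = ⊤) :
    TestFam (fun j => Finite.D 𝒜 (f j)) (fun k : ℕ => Twist.twist 𝒜 (-(k : ℤ))) where
  cover := hcov
  aff j := Proj.isAffineOpen_basicOpen 𝒜 (f j) (hf j) Nat.one_pos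
  qcoh k := isQCoh_twist f hf hcov _
  triv j k := by
    have hU : NonVan (𝒜 := 𝒜) (f j) (Proj.basicOpen 𝒜 (f j)) := fun x => x.2
    haveI := isIso_twTriv (hf j) (-(k : ℤ)) _ hU
    exact ⟨(asIso (twTriv (hf j) (-(k : ℤ)) _ hU)).symm⟩
  ext j M hM z := by
    have key : ∀ W : (Proj 𝒜).Opens, W = Finite.D 𝒜 (f j) → ∀ s : Γ(M, W),
        ∃ (k : ℕ) (ψ : Twist.twist 𝒜 (-(k : ℤ)) ⟶ M) (τ : Γ(Twist.twist 𝒜 (-(k : ℤ)), W)),
          ψ.app W τ = s := by
      rintro W rfl s
      have h₂ : ∀ i l, IsAffineOpen (Finite.D 𝒜 (f i) ⊓ Finite.D 𝒜 (f l)) := fun i l => by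
        rw [show Finite.D 𝒜 (f i) ⊓ Finite.D 𝒜 (f l) = Proj.basicOpen 𝒜 (f i * f l) from
          (Proj.basicOpen_mul 𝒜 _ _).symm]
        exact Proj.isAffineOpen_basicOpen 𝒜 _ (SetLike.mul_mem_graded (hf i) (hf l)) (by omega)
      obtain ⟨k, t, hti, hcompat⟩ := exists_family hf hM
        (fun i => Proj.isAffineOpen_basicOpen 𝒜 (f i) (hf i) Nat.one_pos) h₂ j s
      obtain ⟨τ, hτ⟩ := mem_range_homOfFamily hf k t hcompat hcov j
      exact ⟨k, homOfFamily hf k t hcompat hcov, τ, hτ.trans hti⟩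
    obtain ⟨k, ψ, τ, hτ⟩ := key _ (Scheme.Opens.ι_image_top _) (secEquiv _ _ z)
    refine ⟨k, ψ, (secEquiv _ _).symm τ, (secEquiv _ _).injective ?_⟩
    rw [secEquiv_naturality, Equiv.apply_symm_apply, hτ]

attribute [local instance] MvPolynomial.gradedAlgebra

/-- The coordinates of `P^n`. -/
def coord' (n : ℕ) (R : Type u) [CommRing R] : ULift.{u} (Fin (n + 1)) → MvPolynomial (Fin (n + 1)) R :=
  fun j => MvPolynomial.X j.down

theorem coord'_mem (n : ℕ) (R : Type u) [CommRing R] (j : ULift.{u} (Fin (n + 1))) :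
    coord' n R j ∈ CohB1.polyGrading n R 1 := MvPolynomial.isHomogeneous_X R j.down

theorem iSup_coord' (n : ℕ) (R : Type u) [CommRing R] :
    ⨆ j, Finite.D (CohB1.polyGrading n R) (coord' n R j) = ⊤ :=
  top_le_iff.1 <| (iSup_mOpen_single (ι := Fin (n + 1)) (R := R)).ge.trans
    (iSup_le fun j => le_iSup_of_le (ULift.up j) le_rfl)

theorem compactSpace_proj (n : ℕ) (R : Type u) [CommRing R] :
    CompactSpace ↥(Proj (CohB1.polyGrading n R)) := by
  refine ⟨?_⟩
  have h : (Set.univ : Set ↥(Proj (CohB1.polyGrading n R))) =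
      ⋃ j, (Finite.D (CohB1.polyGrading n R) (coord' n R j) : Set _) := by
    rw [← Opens.coe_iSup, iSup_coord', Opens.coe_top]
  rw [h]
  exact isCompact_iUnion fun j =>
    (Proj.isAffineOpen_basicOpen _ _ (coord'_mem n R j) Nat.one_pos).isCompact

/-- An object killed by all maps from all shifts of the `O(-k)` is zero. -/
theorem isZero_of_twists (n : ℕ) (R : Type u) [CommRing R] {K : DCoh.D (CohB1.ProjSpace n R)}
    (hK : DCoh.IsQCohD K)
    (h : ∀ (k : ℕ) (m : ℤ)
      (φ : (DCoh.inD (CohB1.ProjSpace n R) (Twist.twistProjSpace n R (-(k : ℤ))))⟦m⟧ ⟶ K), φ = 0) :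
    IsZero K :=
  haveI := compactSpace_proj n R
  haveI : QuasiSeparatedSpace ↥(Proj (CohB1.polyGrading n R)) := inferInstance
  isZero_of_test (testFam_twist (𝒜 := CohB1.polyGrading n R) (coord'_mem n R) (iSup_coord' n R))
    hK h

end Groth.Agent.ProjGen7
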