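import Groth.Agent.ProjGen7.Koszul

/-!
# `n + 1` consecutive twists detect objects with quasi-coherent cohomology on `P^n`
-/

set_option linter.style.haveILetI false
set_option backward.isDefEq.respectTransparency false

universe u

open CategoryTheory CategoryTheory.Limits AlgebraicGeometry TopologicalSpace Opposite

attribute [local instance] HasDerivedCategory.standard

noncomputable section

namespace Groth.Agent.ProjGen7

open Groth.Agent.KFlatLib Groth.Agent.PerfGen7 Groth.Agent.PnCoh Groth.Agent.PnDual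

section

variable {R A : Type u} [CommRing R] [CommRing A] [Algebra R A]
  {𝒜 : ℕ → Submodule R A} [GradedAlgebra 𝒜]

theorem mulHom_comm {a b : A} (ha : a ∈ 𝒜 1) (hb : b ∈ 𝒜 1) (d : ℤ) :
    mulHom ha (d := d) (d' := d + 1) rfl ≫ mulHom hb (d := d + 1) (d' := d + 1 + 1) rfl =
      mulHom hb (d := d) (d' := d + 1) rfl ≫ mulHom ha (d := d + 1) (d' := d + 1 + 1) rfl := by
  refine Scheme.Modules.hom_ext _ _ fun U => ?_
  ext s
  exact Subtype.ext (funext fun x => Subtype.ext (mul_right_comm _ _ _))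

theorem twPow_mul_fracOne {a : A} (ha : a ∈ 𝒜 1) (d : ℤ) {x : ProjectiveSpectrum 𝒜}
    (hx : a ∉ x.asHomogeneousIdeal) :
    (Localization.mk (a ^ d.toNat) ⟨a ^ (-d).toNat, pow_notMem hx _⟩ : Twist.Loc 𝒜 x) * fracOne x a =
      Localization.mk (a ^ (d + 1).toNat) ⟨a ^ (-(d + 1)).toNat, pow_notMem hx _⟩ := by
  rw [fracOne, Localization.mk_mul, Localization.mk_eq_mk_iff, Localization.r_iff_exists]
  refine ⟨1, ?_⟩
  simp only [OneMemClass.coe_one, one_mul, mul_one, ← pow_succ, ← pow_add]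
  congr 1
  omega

theorem isIso_restrict_mulHom {a : A} (ha : a ∈ 𝒜 1) (d : ℤ) :
    IsIso ((Scheme.Modules.restrictFunctor (Proj.basicOpen 𝒜 a).ι).map
      (mulHom ha (d := d) (d' := d + 1) rfl)) := by
  refine Scheme.Modules.Hom.isIso_iff_isIso_app.2 fun V => ?_
  refine (ConcreteCategory.isIso_iff_bijective _).2 ?_
  let W := (Proj.basicOpen 𝒜 a).ι ''ᵁ V
  have hW : NonVan (𝒜 := 𝒜) a W := nonVan_image _ (fun x => x.2) V
  have key : ∀ c : Twist.O (𝒜 := 𝒜) (op W),
      mulFracSect ha (d := d) (d' := d + 1) rfl (triv ha d hW c) = triv ha (d + 1) hW c := fun c =>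
    Subtype.ext (funext fun x => Subtype.ext (by
      show ((trivMap ha d hW c).1 x).1 * fracOne x.1 a = ((trivMap ha (d + 1) hW c).1 x).1
      rw [trivMap_apply, trivMap_apply, mul_assoc, twPow_mul_fracOne ha d (hW x)]))
  have h : Function.Bijective (mulFracSect ha (d := d) (d' := d + 1) rfl (U := op W)) := by
    have e : mulFracSect ha (d := d) (d' := d + 1) rfl (U := op W) =
        triv ha (d + 1) hW ∘ (triv ha d hW).symm := funext fun s =>
      (congrArg _ ((triv ha d hW).apply_symm_apply s).symm).trans (key _)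
    rw [e]
    exact (triv ha (d + 1) hW).bijective.comp (triv ha d hW).symm.bijective
  exact h

theorem single_map_comm {C : Type*} [Category C] [HasZeroMorphisms C] [HasZeroObject C] {A B B' D : C}
    (f : A ⟶ B) (g : B ⟶ D) (f' : A ⟶ B') (g' : B' ⟶ D) (h : f ≫ g = f' ≫ g') :
    (HomologicalComplex.single C (ComplexShape.up ℤ) 0).map f ≫
        (HomologicalComplex.single C (ComplexShape.up ℤ) 0).map g =
      (HomologicalComplex.single C (ComplexShape.up ℤ) 0).map f' ≫
        (HomologicalComplex.single C (ComplexShape.up ℤ) 0).map g' := by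
  rw [← Functor.map_comp, h, Functor.map_comp]

/-- A graded family of modules with commuting operators, in degree zero. -/
def kdOfModules {X : Scheme.{u}} {κ : Type} (L : ℤ → X.Modules) (m : κ → ∀ a, L a ⟶ L (a + 1))
    (h : ∀ i j a, m i a ≫ m j (a + 1) = m j a ≫ m i (a + 1)) : KD X κ where
  obj a := (HomologicalComplex.single _ (ComplexShape.up ℤ) 0).obj (L a)
  op i a := (HomologicalComplex.single _ (ComplexShape.up ℤ) 0).map (m i a)
  comm i j a := single_map_comm _ _ _ _ (h i j a)

theorem orth_kdOfModules {X : Scheme.{u}} {κ : Type} [Fintype κ] (L : ℤ → X.Modules)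
    (m : κ → ∀ a, L a ⟶ L (a + 1)) (hc : ∀ i j a, m i a ≫ m j (a + 1) = m j a ≫ m i (a + 1))
    (V : κ → X.Opens) (hcov : ∀ y : X, ∃ i, y ∈ V i)
    (hiso : ∀ i a, IsIso ((Scheme.Modules.restrictFunctor (V i).ι).map (m i a)))
    {K : DCoh.D X} (a : ℤ)
    (h : ∀ b : ℤ, a + 1 ≤ b → b ≤ a + Fintype.card κ → Orth K (DCoh.inD X (L b))) :
    Orth K (DCoh.inD X (L a)) := by
  let F := kdOfModules L m hc
  let l := (Finset.univ : Finset κ).toList
  let e : ∀ b : ℤ, DCoh.inD X (L b) ≅ DerivedCategory.Q.obj (F.obj b) := fun b =>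
    (DerivedCategory.singleFunctorIsoCompQ _ 0).app _
  refine Orth.of_iso (e a).symm (orth_of_cones F l a
    (fun b hb hb' => (h b hb (by simpa [l] using hb')).of_iso (e b)) ?_)
  have hz : IsZero (DerivedCategory.Q.obj ((F.cones l).obj a)) := by
    refine isZero_of_supp_empty (supp_iff.2 fun y _ p => ?_)
    obtain ⟨i, hj⟩ := hcov y
    have hi : ∀ b, IsIso ((rho (V i).ι).map (DerivedCategory.Q.map (F.op i b))) := fun b => by
      haveI := hiso i b
      haveI : IsIso ((HomologicalComplex.single (V i : Scheme.{u}).Modules (ComplexShape.up ℤ) 0).map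
          ((Scheme.Modules.restrictFunctor (V i).ι).map (m i b))) := inferInstance
      haveI : IsIso ((rCx (V i).ι).map
          ((HomologicalComplex.single _ (ComplexShape.up ℤ) 0).map (m i b))) :=
        (NatIso.isIso_map_iff (HomologicalComplex.singleMapHomologicalComplex
          (Scheme.Modules.restrictFunctor (V i).ι) (ComplexShape.up ℤ) 0) (m i b)).2 ‹_›
      exact (NatIso.isIso_map_iff (rhoQ (V i).ι)
        ((HomologicalComplex.single _ (ComplexShape.up ℤ) 0).map (m i b))).2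
          (Functor.map_isIso DerivedCategory.Q _)
    exact supp_iff.1 ((isZero_rho_iff (V i).ι _).1
      (isZero_cones (V i).ι F i hi _ (Finset.mem_toList.2 (Finset.mem_univ i)) a)) y
      (fun hc => hc ⟨⟨y, hj⟩, rfl⟩) p
  intro m φ
  exact ((shiftFunctor _ m).map_isZero hz).eq_of_src _ _

theorem orth_window' {κ : Type} [Fintype κ] {f : κ → A} (hf : ∀ i, f i ∈ 𝒜 1)
    (hcov : ∀ y : Proj 𝒜, ∃ i, y ∈ Proj.basicOpen 𝒜 (f i)) {K : DCoh.D (Proj 𝒜)} (a : ℤ)
    (h : ∀ b : ℤ, a + 1 ≤ b → b ≤ a + Fintype.card κ → Orth K (DCoh.inD _ (Twist.twist 𝒜 b))) :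
    Orth K (DCoh.inD _ (Twist.twist 𝒜 a)) :=
  orth_kdOfModules (fun a => Twist.twist 𝒜 a) (fun i a => mulHom (hf i) (d := a) (d' := a + 1) rfl)
    (fun i j a => mulHom_comm (hf i) (hf j) a) (fun i => Proj.basicOpen 𝒜 (f i)) hcov
    (fun i a => isIso_restrict_mulHom (hf i) a) a h

end

variable (n : ℕ) (R : Type u) [CommRing R]

/-- Vanishing on a window extends to the twist below it. -/
theorem orth_window {K : DCoh.D (Proj (CohB1.polyGrading n R))} (a : ℤ)
    (h : ∀ b : ℤ, a + 1 ≤ b → b ≤ a + n + 1 →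
      Orth K (DCoh.inD _ (Twist.twist (CohB1.polyGrading n R) b))) :
    Orth K (DCoh.inD _ (Twist.twist (CohB1.polyGrading n R) a)) :=
  orth_window' (f := fun i : Fin (n + 1) => coord' n R (ULift.up i))
    (fun i => coord'_mem n R (ULift.up i))
    (fun y => by
      have hy : y ∈ ⨆ j, PnCoh.Finite.D (CohB1.polyGrading n R) (coord' n R j) :=
        iSup_coord' n R ▸ Opens.mem_top y
      obtain ⟨j, hj⟩ := Opens.mem_iSup.1 hy
      exact ⟨j.down, hj⟩) a
    (fun b hb hb' => h b hb (by simp at hb'; omega))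

/-- `O, O(-1), …, O(-n)` detect objects with quasi-coherent cohomology. -/
theorem isZero_of_window {K : DCoh.D (CohB1.ProjSpace n R)} (hK : DCoh.IsQCohD K)
    (h : ∀ (d : ℕ), d ≤ n → ∀ (m : ℤ)
      (φ : (DCoh.inD (CohB1.ProjSpace n R) (Twist.twistProjSpace n R (-(d : ℤ))))⟦m⟧ ⟶ K), φ = 0) :
    IsZero K := by
  refine isZero_of_twists n R hK fun k => ?_
  induction k using Nat.strong_induction_on with
  | _ k ih =>
    by_cases hk : k ≤ n
    · exact h k hk
    · refine orth_window n R (-(k : ℤ)) fun b hb hb' => ?_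
      obtain ⟨c, rfl⟩ : ∃ c : ℕ, b = -(c : ℤ) := ⟨(-b).toNat, by omega⟩
      exact ih c (by omega)

end Groth.Agent.ProjGen7
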