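import Groth.Agent.ProjGen7.Windows
import Groth.Agent.PnCoh.Finite.TwistInv
import Groth.Agent.PnCoh.Global
import Groth.Agent.QCoh.RpushModel
import Groth.Agent.QCoh.OpenSub
import Groth.Agent.KFlatLib.Scheme.TildeD
import Groth.Agent.KFlatLib.Scheme.RpushQCoh
import Groth.Agent.S0844
import Groth.Agent.PnCoh.Chow.Basic

/-!
# `Rπ_* O(-d)` on `P^n_A` for `0 ≤ d ≤ n`
-/

set_option linter.style.haveILetI false
set_option backward.isDefEq.respectTransparency false

universe u

open CategoryTheory CategoryTheory.Limits AlgebraicGeometry TopologicalSpace Opposite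

attribute [local instance] HasDerivedCategory.standard

noncomputable section

namespace Groth.Agent.ProjGen7

open Groth.Agent.KFlatLib Groth.Agent.PerfGen7

/-- The structure module in degree zero is perfect. -/
theorem isPerfect_structure {S : Scheme.{u}} : DCoh.IsPerfect (DCoh.inD S (Coh.structureModule S)) := by
  refine (KFlatLib.isPerfect_iff _).2 fun x => ?_
  let j := (⊤ : S.Opens).ι
  refine ⟨_, j, inferInstance, ⟨⟨x, trivial⟩, rfl⟩,
    (HomologicalComplex.single _ (ComplexShape.up ℤ) 0).obj ((Coh.structureModule S).restrict j),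
    ⟨⟨0, 0, fun n hn => HomologicalComplex.isZero_single_obj_X _ _ _ _ (by omega)⟩, fun n => ?_⟩,
    ⟨((DerivedCategory.singleFunctorIsoCompQ _ 0).app _).symm ≪≫
      (((Scheme.Modules.restrictFunctor j).mapDerivedCategorySingleFunctor 0).app _).symm⟩⟩
  by_cases hn : n = 0
  · subst hn
    exact H23.PullPush.isFinLocFree_of_iso
      (HomologicalComplex.singleObjXSelf (ComplexShape.up ℤ) 0 _ ≪≫ Scheme.Modules.restrictUnitIso j ≪≫
        (coproductUniqueIso (fun _ : Fin 1 => Coh.structureModule ((⊤ : S.Opens) : Scheme.{u}))).symm).symm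
      (isFinLocFree_freeMod 1)
  · exact isFinLocFree_of_isZero (HomologicalComplex.isZero_single_obj_X _ _ _ _ hn)

theorem subsingleton_HU_top' {T : TopCat.{u}} (F : CohTop.Ab T) (n : ℕ) (h : Subsingleton (CohTop.H F n)) :
    Subsingleton (CohTop.HU F n (⊤ : Opens T)) :=
  (SiteBase.huTerminalEquiv isTerminalTop F n).toEquiv.subsingleton

variable {X : Scheme.{u}} {R : CommRingCat.{u}} (π : X ⟶ Spec R) [QuasiCompact π] [QuasiSeparated π]
  [HasInjectiveResolutions X.Modules]

theorem isZero_Rpush_succ {M : X.Modules} (hM : Coh.IsQCoh M) (q : ℕ)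
    (h : Subsingleton (Coh.HH X M (q + 1))) : IsZero ((Coh.Rpush π (q + 1)).obj M) := by
  refine QCoh.isZero_of_cover (QCoh.isQCoh_Rpush π hM (q + 1)) (fun _ : Unit => (⊤ : (Spec R).Opens))
    (fun _ => isAffineOpen_top _) (fun x => ⟨(), trivial⟩) fun _ => ?_
  obtain ⟨e⟩ := QCoh.nonempty_sections_HH (f := π) hM (isAffineOpen_top (Spec R)) (q + 1)
  have h' : Subsingleton (Coh.HH _ (M.restrict (π ⁻¹ᵁ ⊤).ι) (q + 1)) := by
    refine QCoh.subsingleton_HH_restrict (π ⁻¹ᵁ ⊤).ι M q ?_
    rw [show (π ⁻¹ᵁ ⊤).ι.opensRange = ⊤ from Scheme.Opens.opensRange_ι _]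
    exact subsingleton_HU_top' _ _ h
  exact e.toEquiv.subsingleton

variable [DCoh.HasRpush π]

theorem isZero_hd_rpush_single {M : X.Modules} (hM : Coh.IsQCoh M)
    (h : ∀ q : ℕ, Subsingleton (Coh.HH X M (q + 1))) (i : ℤ) (hi : i ≠ 0) :
    IsZero (DCoh.HD ((DCoh.Rpush π).obj (DCoh.inD X M)) i) := by
  rcases lt_or_gt_of_ne hi with hi | hi
  · exact isZero_hd_rpush_of_lt π _ 0 i hi
  · obtain ⟨q, rfl⟩ : ∃ q : ℕ, i = ((q + 1 : ℕ) : ℤ) := ⟨(i - 1).toNat, by omega⟩
    exact (isZero_Rpush_succ π hM q (h q)).of_iso (nonempty_hd_rpush_single π M (q + 1)).some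

theorem nonempty_rpush_single_iso {M : X.Modules} (hM : Coh.IsQCoh M)
    (h : ∀ q : ℕ, Subsingleton (Coh.HH X M (q + 1))) :
    Nonempty ((DCoh.Rpush π).obj (DCoh.inD X M) ≅
      DCoh.inD (Spec R) ((Scheme.Modules.pushforward π).obj M)) := by
  haveI : ((DCoh.Rpush π).obj (DCoh.inD X M)).IsGE 0 := by
    rw [DerivedCategory.isGE_iff]
    exact fun i hi => isZero_hd_rpush_single π hM h i hi.ne
  haveI : ((DCoh.Rpush π).obj (DCoh.inD X M)).IsLE 0 := by
    rw [DerivedCategory.isLE_iff]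
    exact fun i hi => isZero_hd_rpush_single π hM h i hi.ne'
  obtain ⟨N, ⟨e⟩⟩ := DerivedCategory.exists_iso_singleFunctor_obj_of_isGE_of_isLE
    ((DCoh.Rpush π).obj (DCoh.inD X M)) 0
  haveI := QCoh.preservesFiniteLimits_push π
  exact ⟨e ≪≫ (DerivedCategory.singleFunctor _ 0).mapIso
    ((h0Single N).symm ≪≫ (DerivedCategory.homologyFunctor _ 0).mapIso e.symm ≪≫
      (nonempty_hd_rpush_single π M 0).some ≪≫ (Scheme.Modules.pushforward π).rightDerivedZeroIsoSelf.app M)⟩

omit [DCoh.HasRpush π] [HasInjectiveResolutions X.Modules] in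
/-- `π_* O ≅ O` if it is so on global sections. -/
theorem nonempty_push_structure (h : Function.Bijective π.appTop.hom) :
    Nonempty (Coh.structureModule (Spec R) ≅ (Scheme.Modules.pushforward π).obj (Coh.structureModule X)) := by
  let u : Coh.structureModule (Spec R) ⟶ (Scheme.Modules.pushforward π).obj (Coh.structureModule X) :=
    SheafOfModules.unitToPushforwardObjUnit π.toRingCatSheafHom
  haveI : IsIso u := isIso_of_bijective_comp_qcoh (PnCoh.isQCoh_structureModule _)
    (QCoh.isQCoh_pushforward π (PnCoh.isQCoh_structureModule _)) u (by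
      have hu : Function.Bijective (u.app ⊤) := h
      refine (Function.Bijective.of_comp_iff' (tildeREquiv _).bijective _).1 ?_
      refine (show _ = (u.app ⊤ : _ → _) ∘ tildeREquiv (Coh.structureModule (Spec R)) from
        funext fun φ => tildeREquiv_naturality φ u) ▸ hu.comp (tildeREquiv _).bijective)
  exact ⟨asIso u⟩

section Pn

variable (n : ℕ) (A : Type u) [CommRing A]

theorem subsingleton_twist_top (d : ℕ) (h1 : 1 ≤ d) (h2 : d ≤ n) :
    Subsingleton (PnCoh.TwTop (Fin (n + 1)) A (-(d : ℤ))) :=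
  PnCoh.subsingleton_global (by simp; omega) (by omega)

/-- `Rπ_* O(-d)` is perfect for `0 ≤ d ≤ n`. -/
theorem isPerfect_rpush_twist [DCoh.HasRpush (CohB1.ProjSpace.toSpec n A)] (d : ℕ) (hd : d ≤ n) :
    DCoh.IsPerfect ((DCoh.Rpush (CohB1.ProjSpace.toSpec n A)).obj
      (DCoh.inD _ (Twist.twistProjSpace n A (-(d : ℤ))))) := by
  haveI : HasInjectiveResolutions (CohB1.ProjSpace n A).Modules := hasInjectiveResolutions_modules
  haveI : IsProper (CohB1.ProjSpace.toSpec n A) := PnCoh.Chow.isProper_toSpec n A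
  have hM : Coh.IsQCoh (Twist.twistProjSpace n A (-(d : ℤ))) :=
    PnCoh.isQCoh_twist_mvPolynomial (Fin (n + 1)) A _
  have hh : ∀ q : ℕ, Subsingleton (Coh.HH (CohB1.ProjSpace n A)
      (Twist.twistProjSpace n A (-(d : ℤ))) (q + 1)) := fun q =>
    Groth.Agent.S0844.result A n _ (q + 1) (fun h => Nat.succ_ne_zero q h.1) (fun h => by omega)
  obtain ⟨e⟩ := nonempty_rpush_single_iso (CohB1.ProjSpace.toSpec n A) hM hh
  refine isPerfect_of_iso' e.symm ?_
  rcases Nat.eq_zero_or_pos d with rfl | hpos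
  · let i₀ : Coh.structureModule (Proj (CohB1.polyGrading n A)) ≅ Twist.twist (CohB1.polyGrading n A) 0 :=
      @asIso _ _ _ _ _ (PnCoh.Finite.isIso_oneHom (coord' n A) (coord'_mem n A) (iSup_coord' n A))
    obtain ⟨e₀⟩ := nonempty_push_structure (CohB1.ProjSpace.toSpec n A)
      (PnCoh.bijective_toSpecR_appTop (ι := Fin (n + 1)) (R := A))
    exact isPerfect_of_iso' ((DerivedCategory.singleFunctor _ 0).mapIso
      (e₀ ≪≫ (Scheme.Modules.pushforward (CohB1.ProjSpace.toSpec n A)).mapIso i₀)) isPerfect_structure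
  · refine isPerfect_of_isZero' ((DerivedCategory.singleFunctor _ 0).map_isZero ?_)
    refine QCoh.isZero_of_cover (QCoh.isQCoh_pushforward _ hM) (fun _ : Unit => (⊤ : (Spec _).Opens))
      (fun _ => isAffineOpen_top _) (fun x => ⟨(), trivial⟩) fun _ => ?_
    exact subsingleton_twist_top n A d hpos hd

end Pn

end Groth.Agent.ProjGen7
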