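import Groth.Agent.ProjGen7.Transport

/-!
# Cohomological amplitude of `P^r_Y ⟶ Y`
-/

set_option linter.style.haveILetI false
set_option backward.isDefEq.respectTransparency false

universe u

open CategoryTheory CategoryTheory.Limits AlgebraicGeometry TopologicalSpace

attribute [local instance] HasDerivedCategory.standard

noncomputable section

namespace Groth.Agent.ProjGen7

open Groth.Agent.KFlatLib

variable {n : ℕ}

/-- `R^q f_* = 0` on quasi-coherent modules for `q > n`, over an affine base. -/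
theorem rpushVanish_toBase (Y : Scheme.{u}) [IsAffine Y]
    [HasInjectiveResolutions (CohB1.ProjSpaceOver n Y).Modules] :
    RpushVanish (CohB1.ProjSpaceOver.toBase n Y) ⊤ (n + 1) := by
  intro M hM p hp
  let f := CohB1.ProjSpaceOver.toBase n Y
  let g := pullback.fst (CohB1.ProjSpace.toSpec n (ULift.{u} ℤ)) (specULiftZIsTerminal.from Y)
  haveI := PnCoh.Chow.isProper_toSpec n (ULift.{u} ℤ)
  haveI : IsSeparated f := MorphismProperty.of_isPullback
    (IsPullback.of_hasPullback (CohB1.ProjSpace.toSpec n (ULift.{u} ℤ))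
      (specULiftZIsTerminal.from Y)) inferInstance
  haveI : IsAffineHom g := MorphismProperty.of_isPullback
    (IsPullback.of_hasPullback (CohB1.ProjSpace.toSpec n (ULift.{u} ℤ))
      (specULiftZIsTerminal.from Y)).flip inferInstance
  haveI : (CohB1.ProjSpaceOver n Y).IsSeparated := (Scheme.isSeparated_iff _).2 (by
    rw [show terminal.from (CohB1.ProjSpaceOver n Y) = f ≫ terminal.from Y from Subsingleton.elim _ _]
    infer_instance)
  let U : Fin (n + 1) → (CohB1.ProjSpaceOver n Y).Opens := fun j =>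
    g ⁻¹ᵁ (PnCoh.Finite.D (CohB1.polyGrading n (ULift.{u} ℤ)) (coord' n _ (ULift.up j)))
  have hU : ∀ j, IsAffineOpen (U j) := fun j =>
    (Proj.isAffineOpen_basicOpen _ _ (coord'_mem n _ (ULift.up j)) Nat.one_pos :
      IsAffineOpen (PnCoh.Finite.D (CohB1.polyGrading n (ULift.{u} ℤ)) (coord' n _ (ULift.up j)))).preimage g
  have hcov : ⨆ j, U j = ⊤ := by
    refine top_le_iff.1 fun y _ => ?_
    have hy : g.base y ∈ ⨆ j, PnCoh.Finite.D (CohB1.polyGrading n (ULift.{u} ℤ)) (coord' n _ j) := by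
      rw [iSup_coord']; trivial
    obtain ⟨j, hj⟩ := Opens.mem_iSup.1 hy
    exact Opens.mem_iSup.2 ⟨j.down, hj⟩
  have hh : Subsingleton (Coh.HH (CohB1.ProjSpaceOver n Y) M p) :=
    QCoh.HH_subsingleton_of_cover (n + 1) U hU hcov (fun V W hV hW => hV.inf hW) hM p hp
  obtain ⟨q, rfl⟩ : ∃ q, p = q + 1 := ⟨p - 1, by omega⟩
  refine Functor.map_isZero _ ?_
  refine QCoh.isZero_of_cover (QCoh.isQCoh_Rpush f hM (q + 1)) (fun _ : Unit => (⊤ : Y.Opens))
    (fun _ => isAffineOpen_top _) (fun x => ⟨(), trivial⟩) fun _ => ?_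
  obtain ⟨e⟩ := QCoh.nonempty_sections_HH (f := f) hM (isAffineOpen_top Y) (q + 1)
  have h' : Subsingleton (Coh.HH _ (M.restrict (f ⁻¹ᵁ ⊤).ι) (q + 1)) := by
    refine QCoh.subsingleton_HH_restrict (f ⁻¹ᵁ ⊤).ι M q ?_
    rw [show (f ⁻¹ᵁ ⊤).ι.opensRange = ⊤ from Scheme.Opens.opensRange_ι _]
    exact subsingleton_HU_top' _ _ hh
  exact e.toEquiv.subsingleton

/-- Over an affine base `Rf_*` raises the upper amplitude by at most `n`. -/
theorem isLE_rpush_toBase (Y : Scheme.{u}) [IsAffine Y] [DCoh.HasRpush (CohB1.ProjSpaceOver.toBase n Y)]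
    {E : DCoh.D (CohB1.ProjSpaceOver n Y)} (hE : DCoh.IsQCohD E) (a : ℤ) [E.IsLE a] :
    ((DCoh.Rpush (CohB1.ProjSpaceOver.toBase n Y)).obj E).IsLE (a + n) := by
  haveI : HasInjectiveResolutions (CohB1.ProjSpaceOver n Y).Modules := hasInjectiveResolutions_modules
  rw [DerivedCategory.isLE_iff]
  intro i hi
  exact isZero_of_isZero_restrict _ fun y => ⟨⊤, trivial,
    isZero_restrict_hd_rpush _ hE a ⊤ (n + 1) (rpushVanish_toBase Y) i (by push_cast; omega)⟩

end Groth.Agent.ProjGen7
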