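import Groth.Agent.PerfGen7.LiftGlobal
import Groth.Agent.KFlatLib.Scheme.DQCohLimit
import Groth.Agent.KFlatLib.Scheme.PCQCoh
import Mathlib.CategoryTheory.Adjunction.Triple

/-!
# Line bundles with enough sections detect objects with quasi-coherent cohomology
-/

set_option linter.style.haveILetI false
set_option backward.isDefEq.respectTransparency false

universe u

open CategoryTheory CategoryTheory.Limits AlgebraicGeometry Pretriangulated

attribute [local instance] HasDerivedCategory.standard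

noncomputable section

namespace Groth.Agent.ProjGen7

open Groth.Agent.KFlatLib Groth.Agent.PerfGen7

variable {X : Scheme.{u}}

instance isIso_extZero_unit (V : X.Opens) : IsIso (CxOX.extZeroAdj V.ι).unit :=
  (Adjunction.Triple.mk (CxOX.extZeroAdj V.ι)
    (Scheme.Modules.restrictAdjunction V.ι)).isIso_unit_iff_isIso_counit.2 inferInstance

variable {κ : Type u} (V : κ → X.Opens) {ι : Type} (L : ι → X.Modules)

/-- An affine cover on which all `L i` are trivial, sections over which lift to maps from the `L i`. -/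
structure TestFam : Prop where
  cover : ⨆ j, V j = ⊤
  aff : ∀ j, IsAffineOpen (V j)
  qcoh : ∀ i, Coh.IsQCoh (L i)
  triv : ∀ j i, Nonempty ((L i).restrict (V j).ι ≅ Coh.structureModule (V j : Scheme.{u}))
  ext : ∀ j (M : X.Modules), Coh.IsQCoh M → ∀ z : secObj (V j) ⟶ M,
    ∃ (i : ι) (ψ : L i ⟶ M) (x : secObj (V j) ⟶ L i), x ≫ ψ = z

variable {V L} (h : TestFam V L)

include h

/-- A frame of `L i` over `V j`. -/
lemma exists_frame (j : κ) (i : ι) : ∃ e : secObj (V j) ⟶ L i,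
    IsIso ((Scheme.Modules.restrictFunctor (V j).ι).map e) := by
  obtain ⟨t⟩ := h.triv j i
  let a := CxOX.extZeroAdj (V j).ι
  let O : (V j : Scheme.{u}).Modules := Coh.structureModule (V j : Scheme.{u})
  refine ⟨(a.homEquiv O (L i)).symm t.inv, ?_⟩
  have e : a.unit.app O ≫ (Scheme.Modules.restrictFunctor (V j).ι).map ((a.homEquiv O (L i)).symm t.inv) =
      t.inv := by
    exact ((a.homEquiv_unit O (L i) _).symm).trans (Equiv.apply_symm_apply _ _)
  haveI : IsIso (a.unit.app O ≫ (Scheme.Modules.restrictFunctor (V j).ι).map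
      ((a.homEquiv O (L i)).symm t.inv)) := by
    rw [e]
    infer_instance
  haveI : IsIso (a.unit.app O) := inferInstanceAs (IsIso ((CxOX.extZeroAdj (V j).ι).unit.app O))
  exact IsIso.of_isIso_comp_left (a.unit.app O) _

lemma isPerfect_test (i : ι) : DCoh.IsPerfect (DCoh.inD X (L i)) := by
  refine (KFlatLib.isPerfect_iff _).2 fun x => ?_
  have hx : x ∈ ⨆ j, V j := h.cover ▸ TopologicalSpace.Opens.mem_top x
  obtain ⟨j, hj⟩ := TopologicalSpace.Opens.mem_iSup.1 hx
  obtain ⟨t⟩ := h.triv j i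
  let e : (rho (V j).ι).obj (DCoh.inD X (L i)) ≅
      DCoh.inD (V j : Scheme.{u}) ((Scheme.Modules.restrictFunctor (V j).ι).obj (L i)) :=
    ((Scheme.Modules.restrictFunctor (V j).ι).mapDerivedCategorySingleFunctor 0).app (L i)
  refine ⟨_, (V j).ι, inferInstance, ⟨⟨x, hj⟩, rfl⟩,
    (HomologicalComplex.single _ (ComplexShape.up ℤ) 0).obj ((L i).restrict (V j).ι),
    ⟨⟨0, 0, fun n hn => HomologicalComplex.isZero_single_obj_X _ _ _ _ (by omega)⟩, fun n => ?_⟩,
    ⟨((DerivedCategory.singleFunctorIsoCompQ _ 0).app _).symm ≪≫ e.symm⟩⟩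
  by_cases hn : n = 0
  · subst hn
    exact H23.PullPush.isFinLocFree_of_iso
      (HomologicalComplex.singleObjXSelf (ComplexShape.up ℤ) 0 _ ≪≫ t ≪≫
        (coproductUniqueIso (fun _ : Fin 1 => Coh.structureModule (V j : Scheme.{u}))).symm).symm
      (isFinLocFree_freeMod 1)
  · exact isFinLocFree_of_isZero (HomologicalComplex.isZero_single_obj_X _ _ _ _ hn)

/-- A map of test objects killing a map into a complex vanishing on `V j₀`, on `V j`. -/
lemma kill (j₀ j : κ) {C : DCoh.D X} (hC : DCoh.IsQCohD C) (hC₀ : Supp C ((V j₀ : Set X))ᶜ) {i : ι}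
    (φ : DCoh.inD X (L i) ⟶ C) (x : secObj (V j₀) ⟶ L i) :
    ∃ (i' : ι) (u : L i' ⟶ L i) (x' : secObj (V j₀) ⟶ L i'), x' ≫ u = x ∧
      (rho (V j).ι).map ((DerivedCategory.singleFunctor X.Modules 0).map u ≫ φ) = 0 := by
  let H := DerivedCategory.homologyFunctor X.Modules 0
  let g : L i ⟶ DCoh.HD C 0 := (h0Single (L i)).inv ≫ H.map φ
  have hz : IsZero ((Scheme.Modules.restrictFunctor (V j₀).ι).obj (DCoh.HD C 0)) :=
    (Functor.map_isZero (DerivedCategory.homologyFunctor _ 0) ((isZero_rho_iff (V j₀).ι C).2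
      (by rwa [Scheme.Opens.range_ι]))).of_iso (restrictHDIso (V j₀).ι C 0).symm
  have hxg : x ≫ g = 0 := ((CxOX.extZeroAdj (V j₀).ι).homEquiv _ _).injective (hz.eq_of_tgt _ _)
  obtain ⟨i', ψ, x', hx'⟩ := h.ext j₀ (kernel g) (QCoh.isQCoh_kernel (h.qcoh i) (hC 0) g)
    (kernel.lift g x hxg)
  refine ⟨i', ψ ≫ kernel.ι g, x', by rw [← Category.assoc, hx', kernel.lift_ι], ?_⟩
  obtain ⟨e, he⟩ := exists_frame h j i'
  let S := DerivedCategory.singleFunctor X.Modules 0
  have h0 : S.map e ≫ S.map (ψ ≫ kernel.ι g) ≫ φ = 0 := by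
    refine (bijH0_of_isQCohD hC (h.aff j)).1 ?_
    rw [psi_zero, ← Category.assoc, ← S.map_comp, psi_comp]
    have hn : psi (V j) _ (S.map (e ≫ ψ ≫ kernel.ι g)) = (e ≫ ψ ≫ kernel.ι g) ≫ (h0Single (L i)).inv :=
      ((DerivedCategory.singleFunctorCompHomologyFunctorIso X.Modules 0).inv.naturality
        (e ≫ ψ ≫ kernel.ι g)).symm
    rw [hn]
    simp only [Category.assoc]
    show e ≫ ψ ≫ kernel.ι g ≫ g = 0
    rw [kernel.condition, comp_zero, comp_zero]
  haveI : IsIso ((rho (V j).ι).map (S.map e)) :=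
    (NatIso.isIso_map_iff ((Scheme.Modules.restrictFunctor (V j).ι).mapDerivedCategorySingleFunctor 0) e).2
      (Functor.map_isIso (DerivedCategory.singleFunctor _ 0) _)
  rw [← cancel_epi ((rho (V j).ι).map (S.map e)), ← Functor.map_comp, h0, Functor.map_zero, comp_zero]

variable [Finite κ] [QuasiSeparatedSpace X]

/-- Maps into complexes vanishing on `V j₀` are killed by a map of test objects. -/
lemma kill_all (j₀ : κ) {C : DCoh.D X} (hC : DCoh.IsQCohD C) (hC₀ : Supp C ((V j₀ : Set X))ᶜ) {i : ι}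
    (φ : DCoh.inD X (L i) ⟶ C) (x : secObj (V j₀) ⟶ L i) :
    ∃ (i' : ι) (u : L i' ⟶ L i) (x' : secObj (V j₀) ⟶ L i'), x' ≫ u = x ∧
      (DerivedCategory.singleFunctor X.Modules 0).map u ≫ φ = 0 := by
  classical
  haveI := Fintype.ofFinite κ
  let S := DerivedCategory.singleFunctor X.Modules 0
  suffices H : ∀ t : Finset κ, ∃ (i' : ι) (u : L i' ⟶ L i) (x' : secObj (V j₀) ⟶ L i'), x' ≫ u = x ∧
      ∃ (C' : DCoh.D X) (φ' : DCoh.inD X (L i') ⟶ C') (ε : C' ⟶ C),
        φ' ≫ ε = S.map u ≫ φ ∧ DCoh.IsQCohD C' ∧ Supp C' ((V j₀ : Set X))ᶜ ∧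
          ∀ j ∈ t, Supp C' ((V j : Set X))ᶜ by
    obtain ⟨i', u, x', hx, C', φ', ε, he, -, -, hs⟩ := H Finset.univ
    refine ⟨i', u, x', hx, ?_⟩
    have hz : IsZero C' := isZero_of_supp_empty (supp_iff.2 fun y _ n => by
      have hy : y ∈ ⨆ j, V j := h.cover ▸ TopologicalSpace.Opens.mem_top y
      obtain ⟨j, hj⟩ := TopologicalSpace.Opens.mem_iSup.1 hy
      exact supp_iff.1 (hs j (Finset.mem_univ j)) y (fun hc => hc hj) n)
    rw [← he, hz.eq_of_tgt φ' 0, zero_comp]
  intro t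
  induction t using Finset.induction_on with
  | empty =>
    exact ⟨i, 𝟙 _, x, Category.comp_id _, C, φ, 𝟙 _, by rw [S.map_id, Category.comp_id]; exact (Category.id_comp φ).symm,
      hC, hC₀, fun j hj => absurd hj (Finset.notMem_empty j)⟩
  | @insert j t hjt ih =>
    obtain ⟨i₁, u₁, x₁, hx₁, C₁, φ₁, ε₁, he₁, hq₁, hs₁, ht₁⟩ := ih
    obtain ⟨i₂, u₂, x₂, hx₂, hk⟩ := kill h j₀ j hq₁ hs₁ φ₁ x₁
    haveI := quasiCompact_ι (V j) (h.aff j).isCompact
    haveI := hasRpush_scheme (V j).ι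
    haveI : HasInjectiveResolutions (V j : Scheme.{u}).Modules := hasInjectiveResolutions_modules
    let η := (adjR (V j).ι).unit.app C₁
    obtain ⟨C₂, ε₂, δ, hε⟩ := distinguished_cocone_triangle₁ η
    have hq₂ : DCoh.IsQCohD C₂ :=
      isQCohD_obj₁ hε hq₁ (isQCohD_rpush _ (isQCohD_rho _ hq₁))
    have hsupp : ∀ T : Set X, IsClosed T → Supp C₁ T → Supp C₂ T := fun T hT hT₁ =>
      supp_obj₁ hε hT₁ (supp_rpush _ hT (hT₁.rho _))
    have h₀ : (S.map u₂ ≫ φ₁) ≫ η = 0 := by
      have hn := (adjR (V j).ι).unit.naturality (S.map u₂ ≫ φ₁)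
      simp only [Functor.id_map, Functor.comp_map, Functor.id_obj] at hn
      exact hn.trans (by rw [hk, Functor.map_zero, comp_zero])
    obtain ⟨φ₂, hφ₂⟩ := Triangle.coyoneda_exact₂ _ hε (S.map u₂ ≫ φ₁) h₀
    refine ⟨i₂, u₂ ≫ u₁, x₂, by rw [reassoc_of% hx₂, hx₁], C₂, φ₂, ε₂ ≫ ε₁, ?_, hq₂,
      hsupp _ (V j₀).2.isClosed_compl hs₁, fun k hk' => ?_⟩
    · erw [← Category.assoc, ← hφ₂]
      rw [S.map_comp, Category.assoc, Category.assoc]
      exact congrArg (S.map u₂ ≫ ·) he₁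
    · rcases Finset.mem_insert.1 hk' with rfl | hk'
      · have hz := (isZero_rho_iff (V k).ι C₂).1 ((Triangle.isZero₁_iff_isIso₂ _
          ((rho (V k).ι).map_distinguished _ hε)).2 (isIso_rho_unit (V k).ι C₁))
        rwa [Scheme.Opens.range_ι] at hz
      · exact hsupp _ (V k).2.isClosed_compl (ht₁ k hk')

variable [CompactSpace X]

/-- An object without maps from the test objects in degree zero has no cohomology sections there. -/
lemma secObj_hom_eq_zero {K : DCoh.D X} (hK : DCoh.IsQCohD K)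
    (hzero : ∀ (i : ι) (φ : DCoh.inD X (L i) ⟶ K), φ = 0) (j : κ) (z : secObj (V j) ⟶ DCoh.HD K 0) :
    z = 0 := by
  obtain ⟨θ, rfl⟩ := (bijH0_of_isQCohD hK (h.aff j)).2 z
  obtain ⟨i₀, -, -, -⟩ := h.ext j (DCoh.HD K 0) (hK 0) 0
  obtain ⟨e, he⟩ := exists_frame h j i₀
  let S := DerivedCategory.singleFunctor X.Modules 0
  haveI : IsIso ((rho (V j).ι).map (S.map e)) :=
    (NatIso.isIso_map_iff ((Scheme.Modules.restrictFunctor (V j).ι).mapDerivedCategorySingleFunctor 0) e).2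
      (Functor.map_isIso (DerivedCategory.singleFunctor _ 0) _)
  let α := inv ((rho (V j).ι).map (S.map e)) ≫ (rho (V j).ι).map θ
  have hG := isPerfect_test h i₀
  obtain ⟨G₁, β, γ, hG₁, -, hβ, hγ⟩ := exists_lift_supp (V j) (h.aff j).isCompact isClosed_univ
    (by simp) hG (supp_iff.2 fun y hy => (hy trivial).elim)
    ⟨hK, supp_iff.2 fun y hy => (hy trivial).elim⟩ α
  obtain ⟨C, q, d, hd⟩ := distinguished_cocone_triangle β
  have hqC : DCoh.IsQCohD C := isQCohD_obj₃ hd (isQCohD_of_isPerfect hG₁) (isQCohD_of_isPerfect hG)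
  have hsC : Supp C ((V j : Set X))ᶜ := by
    haveI := hβ
    have hz := (isZero_rho_iff (V j).ι C).1 ((Triangle.isZero₃_iff_isIso₁ _
      ((rho (V j).ι).map_distinguished _ hd)).2 hβ)
    rwa [Scheme.Opens.range_ι] at hz
  obtain ⟨i', u, x', hx', hu⟩ := kill_all h j hqC hsC q e
  obtain ⟨w, hw⟩ := Triangle.coyoneda_exact₂ _ hd (S.map u) hu
  have key : (rho (V j).ι).map θ = 0 := by
    have h1 : (rho (V j).ι).map θ = (rho (V j).ι).map (S.map e) ≫ α := by simp [α]
    rw [h1, ← hx', S.map_comp, hw]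
    change (rho (V j).ι).map (S.map x' ≫ w ≫ β) ≫ α = 0
    rw [Functor.map_comp, Functor.map_comp, Category.assoc, Category.assoc, hγ,
      ← Functor.map_comp, hzero i' (w ≫ γ), Functor.map_zero, comp_zero]
  refine ((CxOX.extZeroAdj (V j).ι).homEquiv _ _).injective ?_
  have hH : (Scheme.Modules.restrictFunctor (V j).ι).map
      ((DerivedCategory.homologyFunctor X.Modules 0).map θ) = 0 := by
    have hn := (mapDCHomologyIso (Scheme.Modules.restrictFunctor (V j).ι) 0).hom.naturality θ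
    simp only [Functor.comp_map] at hn
    rw [key, Functor.map_zero, zero_comp] at hn
    exact (cancel_epi ((mapDCHomologyIso (Scheme.Modules.restrictFunctor (V j).ι) 0).hom.app _)).1
      (hn.symm.trans comp_zero.symm)
  rw [Adjunction.homEquiv_unit, Adjunction.homEquiv_unit, psi, Functor.map_comp, hH, comp_zero,
    Functor.map_zero]

/-- The test objects detect objects with quasi-coherent cohomology. -/
theorem isZero_of_test {K : DCoh.D X} (hK : DCoh.IsQCohD K)
    (hzero : ∀ (i : ι) (m : ℤ) (φ : (DCoh.inD X (L i))⟦m⟧ ⟶ K), φ = 0) : IsZero K := by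
  refine isZero_of_supp_empty (supp_iff.2 fun y _ p => ?_)
  let e : DCoh.HD (K⟦p⟧) 0 ≅ DCoh.HD K p :=
    ((DerivedCategory.homologyFunctor X.Modules 0).shiftIso p 0 p (add_zero p)).app K
  have hK' := isQCohD_shift hK p
  have hz' : ∀ (i : ι) (φ : DCoh.inD X (L i) ⟶ K⟦p⟧), φ = 0 := fun i φ => by
    refine (shiftFunctor (DCoh.D X) (-p)).map_injective ?_
    rw [Functor.map_zero, ← cancel_mono ((shiftShiftNeg K p)).hom, zero_comp]
    exact hzero i (-p) _
  refine (DerSch.stalkFunctor X y).map_isZero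
    (QCoh.isZero_of_cover (hK p) V h.aff (fun x => TopologicalSpace.Opens.mem_iSup.1
      (h.cover ▸ TopologicalSpace.Opens.mem_top x)) fun j => ⟨fun a b => ?_⟩)
  have hs : ∀ z : secObj (V j) ⟶ DCoh.HD K p, z = 0 := fun z => by
    rw [← cancel_mono e.inv, zero_comp]
    exact secObj_hom_eq_zero h hK' hz' j _
  have key : ∀ W : X.Opens, W = (V j).ι ''ᵁ ⊤ → Subsingleton Γ(DCoh.HD K p, W) := fun W hW => by
    subst hW
    exact ⟨fun a b => (secEquiv (V j) _).symm.injective ((hs _).trans (hs _).symm)⟩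
  exact @Subsingleton.elim _ (key _ (Scheme.Opens.ι_image_top _).symm) a b

end Groth.Agent.ProjGen7
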