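import Groth.Agent.ProjGen7.Pn
import Groth.Agent.Lib.PnDualMul

/-!
# Iterated cones of multiplications by the coordinates, and windows of twists
-/

set_option linter.style.haveILetI false
set_option backward.isDefEq.respectTransparency false

universe u

open CategoryTheory CategoryTheory.Limits AlgebraicGeometry Pretriangulated

attribute [local instance] HasDerivedCategory.standard

noncomputable section

namespace Groth.Agent.ProjGen7

open Groth.Agent.KFlatLib Groth.Agent.PerfGen7

variable {X : Scheme.{u}}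

/-- All maps from shifts of `A` to `K` vanish. -/
def Orth (K A : DCoh.D X) : Prop := ∀ (m : ℤ) (φ : A⟦m⟧ ⟶ K), φ = 0

lemma Orth.of_iso {K A B : DCoh.D X} (e : A ≅ B) (h : Orth K A) : Orth K B := fun m φ => by
  rw [← cancel_epi ((shiftFunctor (DCoh.D X) m).map e.hom), comp_zero]
  exact h m _

lemma Orth.shift {K A : DCoh.D X} (h : Orth K A) (k : ℤ) : Orth K (A⟦k⟧) := fun m φ => by
  rw [← cancel_epi ((shiftFunctorAdd (DCoh.D X) k m).app A).hom, comp_zero]
  exact h (k + m) _

lemma Orth.obj₂ {K : DCoh.D X} {T : Triangle (DCoh.D X)} (hT : T ∈ distTriang _)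
    (h₁ : Orth K T.obj₁) (h₃ : Orth K T.obj₃) : Orth K T.obj₂ := fun m φ => by
  obtain ⟨ψ, hψ⟩ := Triangle.yoneda_exact₂ _ (Triangle.shift_distinguished T hT m) φ (h₁ m _)
  rw [hψ, h₃ m ψ]
  exact comp_zero

lemma Orth.obj₁ {K : DCoh.D X} {T : Triangle (DCoh.D X)} (hT : T ∈ distTriang _)
    (h₂ : Orth K T.obj₂) (h₃ : Orth K T.obj₃) : Orth K T.obj₁ :=
  Orth.obj₂ (inv_rot_of_distTriang _ hT) (h₃.shift (-1)) h₂

lemma Orth.obj₃ {K : DCoh.D X} {T : Triangle (DCoh.D X)} (hT : T ∈ distTriang _)
    (h₁ : Orth K T.obj₁) (h₂ : Orth K T.obj₂) : Orth K T.obj₃ :=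
  Orth.obj₂ (rot_of_distTriang _ hT) h₂ (h₁.shift 1)

/-- A graded family of complexes with commuting operators of degree one. -/
structure KD (X : Scheme.{u}) (κ : Type) where
  obj : ℤ → CochainComplex X.Modules ℤ
  op : κ → ∀ a : ℤ, obj a ⟶ obj (a + 1)
  comm : ∀ i j a, op i a ≫ op j (a + 1) = op j a ≫ op i (a + 1)

variable {κ : Type}

/-- The cone of the operator `t`. -/
def KD.next (F : KD X κ) (t : κ) : KD X κ where
  obj a := CochainComplex.mappingCone (F.op t a)
  op j a := CochainComplex.mappingCone.map (F.op t a) (F.op t (a + 1)) (F.op j a) (F.op j (a + 1))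
    (F.comm t j a)
  comm i j a := by
    rw [← CochainComplex.mappingCone.map_comp, ← CochainComplex.mappingCone.map_comp]
    congr 1
    · exact F.comm i j a
    · exact F.comm i j (a + 1)

/-- The triangle of the cone of an operator. -/
abbrev KD.tri (F : KD X κ) (t : κ) (a : ℤ) : Triangle (DCoh.D X) :=
  DerivedCategory.Q.mapTriangle.obj (CochainComplex.mappingCone.triangle (F.op t a))

lemma KD.tri_distinguished (F : KD X κ) (t : κ) (a : ℤ) : F.tri t a ∈ distTriang _ :=
  DerivedCategory.mappingCone_triangle_distinguished _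

lemma orth_next {K : DCoh.D X} (F : KD X κ) (t : κ) (a : ℤ)
    (h₁ : Orth K (DerivedCategory.Q.obj (F.obj a))) (h₂ : Orth K (DerivedCategory.Q.obj (F.obj (a + 1)))) :
    Orth K (DerivedCategory.Q.obj ((F.next t).obj a)) :=
  Orth.obj₃ (F.tri_distinguished t a) h₁ h₂

lemma orth_of_next {K : DCoh.D X} (F : KD X κ) (t : κ) (a : ℤ)
    (h₂ : Orth K (DerivedCategory.Q.obj (F.obj (a + 1))))
    (h₃ : Orth K (DerivedCategory.Q.obj ((F.next t).obj a))) :
    Orth K (DerivedCategory.Q.obj (F.obj a)) :=
  Orth.obj₁ (F.tri_distinguished t a) h₂ h₃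

/-- Iterated cones along a list. -/
def KD.cones (F : KD X κ) : List κ → KD X κ
  | [] => F
  | t :: l => (F.cones l).next t

lemma orth_cones {K : DCoh.D X} (F : KD X κ) : ∀ (l : List κ) (a : ℤ),
    (∀ b, a ≤ b → b ≤ a + (l.length : ℤ) → Orth K (DerivedCategory.Q.obj (F.obj b))) →
      Orth K (DerivedCategory.Q.obj ((F.cones l).obj a))
  | [], a, h => h a le_rfl (by simp)
  | t :: l, a, h => orth_next (F.cones l) t a
      (orth_cones F l a fun b hb hb' => h b hb (by simp; omega))
      (orth_cones F l (a + 1) fun b hb hb' => h b (by omega) (by simp; omega))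

lemma orth_of_cones {K : DCoh.D X} (F : KD X κ) : ∀ (l : List κ) (a : ℤ),
    (∀ b, a + 1 ≤ b → b ≤ a + (l.length : ℤ) → Orth K (DerivedCategory.Q.obj (F.obj b))) →
      Orth K (DerivedCategory.Q.obj ((F.cones l).obj a)) →
        Orth K (DerivedCategory.Q.obj (F.obj a))
  | [], _, _, hl => hl
  | t :: l, a, h, hl => orth_of_cones F l a (fun b hb hb' => h b hb (by simp; omega))
      (orth_of_next (F.cones l) t a
        (orth_cones F l (a + 1) fun b hb hb' => h b hb (by simp; omega)) hl)

variable {U : Scheme.{u}} (j : U ⟶ X) [IsOpenImmersion j]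

lemma isIso_op_cones (F : KD X κ) (i : κ)
    (h : ∀ a, IsIso ((rho j).map (DerivedCategory.Q.map (F.op i a)))) :
    ∀ (l : List κ) (a : ℤ), IsIso ((rho j).map (DerivedCategory.Q.map ((F.cones l).op i a)))
  | [], a => h a
  | t :: l, a => by
    let G := F.cones l
    exact isIso₃_of_isIso₁₂ ((rho j).mapTriangle.map (DerivedCategory.Q.mapTriangle.map
      (CochainComplex.mappingCone.triangleMap (G.op t a) (G.op t (a + 1)) (G.op i a) (G.op i (a + 1))
        (G.comm t i a))))
      ((rho j).map_distinguished _ (G.tri_distinguished t a))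
      ((rho j).map_distinguished _ (G.tri_distinguished t (a + 1)))
      (isIso_op_cones F i h l a) (isIso_op_cones F i h l (a + 1))

lemma isZero_cones (F : KD X κ) (i : κ)
    (h : ∀ a, IsIso ((rho j).map (DerivedCategory.Q.map (F.op i a)))) :
    ∀ (l : List κ), i ∈ l → ∀ a : ℤ, IsZero ((rho j).obj (DerivedCategory.Q.obj ((F.cones l).obj a)))
  | [], hi, _ => absurd hi List.not_mem_nil
  | t :: l, hi, a => by
    have hd := (rho j).map_distinguished _ ((F.cones l).tri_distinguished t a)
    rcases List.mem_cons.1 hi with rfl | hi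
    · exact (Triangle.isZero₃_iff_isIso₁ _ hd).2 (isIso_op_cones j F i h l a)
    · exact Triangle.isZero₃_of_isZero₁₂ _ hd (isZero_cones F i h l hi a)
        (isZero_cones F i h l hi (a + 1))

end Groth.Agent.ProjGen7
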