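import Groth.Agent.ProjGen7.RpushPerfect
import Groth.Agent.ProjX.Chart

/-!
# Direct images along `P^r_Y ⟶ Y` for an arbitrary scheme `Y`
-/

set_option linter.style.haveILetI false
set_option backward.isDefEq.respectTransparency false

universe u

open CategoryTheory CategoryTheory.Limits AlgebraicGeometry Pretriangulated

attribute [local instance] HasDerivedCategory.standard

noncomputable section

namespace Groth.Agent.ProjGen7

open Groth.Agent.KFlatLib Groth.Agent.PerfGen7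

variable {X Y Z : Scheme.{u}}

/-- Direct images of perfect objects along `f` are perfect. -/
def PerfPush (f : X ⟶ Y) [DCoh.HasRpush f] : Prop :=
  ∀ E : DCoh.D X, DCoh.IsPerfect E → DCoh.IsPerfect ((DCoh.Rpush f).obj E)

theorem perfPush_iso (k : X ⟶ Y) [IsIso k] [DCoh.HasRpush k] : PerfPush k := fun E hE =>
  isPerfect_of_surjective k (fun y => ⟨(inv k).base y, by
    rw [← Scheme.Hom.comp_apply, IsIso.inv_hom_id]; rfl⟩)
    (isPerfect_of_iso' (asIso ((adjR k).counit.app E)).symm hE)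

theorem perfPush_comp (a : X ⟶ Y) (b : Y ⟶ Z) [DCoh.HasRpush a] [DCoh.HasRpush b]
    [DCoh.HasRpush (a ≫ b)] (ha : PerfPush a) (hb : PerfPush b) : PerfPush (a ≫ b) := fun E hE =>
  isPerfect_of_iso' ((nonempty_rpush_comp a b).some.app E) (hb _ (ha E hE))

theorem perfPush_congr {f g : X ⟶ Y} (h : f = g) [DCoh.HasRpush f] [DCoh.HasRpush g]
    (hf : PerfPush f) : PerfPush g := by
  subst h
  exact hf

/-- The property only depends on the morphism up to isomorphism of source and target. -/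
theorem perfPush_transport {X' Y' : Scheme.{u}} {f : X ⟶ Y} [DCoh.HasRpush f] (hf : PerfPush f)
    (g : X' ⟶ Y') [DCoh.HasRpush g] (a : X' ≅ X) (b : Y ≅ Y') (h : g = a.hom ≫ f ≫ b.hom) :
    PerfPush g := by
  haveI := hasRpush_scheme a.hom
  haveI := hasRpush_scheme b.hom
  haveI := hasRpush_scheme (f ≫ b.hom)
  haveI := hasRpush_scheme (a.hom ≫ f ≫ b.hom)
  exact perfPush_congr h.symm
    (perfPush_comp a.hom (f ≫ b.hom) (perfPush_iso _) (perfPush_comp f b.hom hf (perfPush_iso _)))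

variable {n : ℕ}

/-- Over an affine open of the base. -/
theorem perfPush_restrict {Y : Scheme.{u}} {W : Y.Opens} (hW : IsAffineOpen W)
    [DCoh.HasRpush (CohB1.ProjSpaceOver.toBase n Y ∣_ W)] :
    PerfPush (CohB1.ProjSpaceOver.toBase n Y ∣_ W) := by
  let p := CohB1.ProjSpaceOver.toBase n Y
  have h₁ := ProjX.isPullback_chart n hW
  haveI := hasRpush_scheme (CohB1.ProjSpace.toSpec n Γ(Y, W))
  let b : Spec Γ(Y, W) ≅ (W : Scheme.{u}) := hW.isoSpec.symm
  have hb : hW.fromSpec = b.hom ≫ W.ι := rfl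
  have h₂ : IsPullback (p ⁻¹ᵁ W).ι (p ∣_ W) p W.ι := (isPullback_morphismRestrict p W).flip
  have h₃ : IsPullback (ProjX.chart n hW) (CohB1.ProjSpace.toSpec n Γ(Y, W) ≫ b.hom) p W.ι :=
    IsPullback.of_iso h₁ (Iso.refl _) (Iso.refl _) b (Iso.refl _)
      (by simp [p]) (by simp) (by simp [p]) (by rw [hb]; simp)
  refine perfPush_transport (f := CohB1.ProjSpace.toSpec n Γ(Y, W))
    (fun E hE => isPerfect_rpush_Pn n Γ(Y, W) hE) (p ∣_ W) (h₂.isoIsPullback _ _ h₃) b ?_
  exact (h₂.isoIsPullback_hom_snd _ _ h₃).symm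

instance quasiCompact_toBase (Y : Scheme.{u}) : QuasiCompact (CohB1.ProjSpaceOver.toBase n Y) :=
  haveI := PnCoh.Chow.isProper_toSpec n (ULift.{u} ℤ)
  MorphismProperty.of_isPullback (IsPullback.of_hasPullback (CohB1.ProjSpace.toSpec n (ULift.{u} ℤ))
    (specULiftZIsTerminal.from Y)) inferInstance

instance quasiSeparated_toBase (Y : Scheme.{u}) : QuasiSeparated (CohB1.ProjSpaceOver.toBase n Y) :=
  haveI := PnCoh.Chow.isProper_toSpec n (ULift.{u} ℤ)
  MorphismProperty.of_isPullback (IsPullback.of_hasPullback (CohB1.ProjSpace.toSpec n (ULift.{u} ℤ))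
    (specULiftZIsTerminal.from Y)) inferInstance

/-- Direct images along `P^r_Y ⟶ Y` of perfect objects are perfect. -/
theorem isPerfect_rpush_toBase (Y : Scheme.{u}) [DCoh.HasRpush (CohB1.ProjSpaceOver.toBase n Y)]
    {E : DCoh.D (CohB1.ProjSpaceOver n Y)} (hE : DCoh.IsPerfect E) :
    DCoh.IsPerfect ((DCoh.Rpush (CohB1.ProjSpaceOver.toBase n Y)).obj E) := by
  refine (KFlatLib.isPerfect_iff _).2 (LocSP.of_local fun y => ?_)
  obtain ⟨W, hW, hyW, -⟩ := exists_isAffineOpen_mem_and_subset (x := y) (U := (⊤ : Y.Opens)) trivial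
  haveI := hasRpush_scheme (CohB1.ProjSpaceOver.toBase n Y ∣_ W)
  obtain ⟨e⟩ := nonempty_rpush_restrictD_iso (CohB1.ProjSpaceOver.toBase n Y) W
  refine ⟨_, W.ι, inferInstance, ⟨⟨y, hyW⟩, rfl⟩, ((KFlatLib.isPerfect_iff _).1
    (perfPush_restrict hW _ (isPerfect_rho' _ hE))).of_iso (e.app E).symm⟩

/-- Direct images along `P^r_Y ⟶ Y` of pseudo-coherent objects are pseudo-coherent. -/
theorem locPC_rpush_toBase (Y : Scheme.{u}) [DCoh.HasRpush (CohB1.ProjSpaceOver.toBase n Y)]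
    {E : DCoh.D (CohB1.ProjSpaceOver n Y)} (hE : ∀ m : ℤ, LocPC m E) (m : ℤ) :
    LocPC m ((DCoh.Rpush (CohB1.ProjSpaceOver.toBase n Y)).obj E) := by
  refine LocPC.of_local fun y => ?_
  obtain ⟨W, hW, hyW, -⟩ := exists_isAffineOpen_mem_and_subset (x := y) (U := (⊤ : Y.Opens)) trivial
  haveI := hasRpush_scheme (CohB1.ProjSpaceOver.toBase n Y ∣_ W)
  haveI : IsAffine (W : Scheme.{u}) := hW
  haveI : QuasiCompact (CohB1.ProjSpaceOver.toBase n Y ∣_ W) :=
    MorphismProperty.of_isPullback (isPullback_morphismRestrict _ W).flip (quasiCompact_toBase Y)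
  haveI : QuasiSeparated (CohB1.ProjSpaceOver.toBase n Y ∣_ W) :=
    MorphismProperty.of_isPullback (isPullback_morphismRestrict _ W).flip (quasiSeparated_toBase Y)
  haveI : CompactSpace ((CohB1.ProjSpaceOver.toBase n Y ⁻¹ᵁ W) : Scheme.{u}) :=
    QuasiCompact.compactSpace_of_compactSpace (CohB1.ProjSpaceOver.toBase n Y ∣_ W)
  haveI : QuasiSeparatedSpace ((CohB1.ProjSpaceOver.toBase n Y ⁻¹ᵁ W) : Scheme.{u}) :=
    quasiSeparatedSpace_of_quasiSeparated (CohB1.ProjSpaceOver.toBase n Y ∣_ W)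
  obtain ⟨e⟩ := nonempty_rpush_restrictD_iso (CohB1.ProjSpaceOver.toBase n Y) W
  exact ⟨_, W.ι, inferInstance, ⟨⟨y, hyW⟩, rfl⟩, (locPC_rpush_of_perfect _ (perfPush_restrict hW)
    (fun k => (isPseudoCoherentD_iff _ _).2 ((hE k).restrict _)) m).of_iso (e.app E).symm⟩

end Groth.Agent.ProjGen7
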