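import Groth.Agent.ProjGen7.RelRpush
import Groth.Agent.ProjGen7.Transport
import Groth.Agent.PerfGen7.RelNPC
import Groth.Agent.PerfGen7.RelTor.PerfectMor
import Groth.Agent.PCMor.Scheme
import Groth.Agent.PnSmooth7.Main
import Groth.Agent.S6217

/-!
# Direct images of perfect objects along projective perfect morphisms over an arbitrary base
-/

set_option linter.style.haveILetI false
set_option backward.isDefEq.respectTransparency false
set_option maxHeartbeats 1000000

universe u

open CategoryTheory CategoryTheory.Limits AlgebraicGeometry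

attribute [local instance] HasDerivedCategory.standard

noncomputable section

namespace Groth.Agent.ProjGen7

open Groth.Agent.KFlatLib Groth.Agent.PerfGen7

variable {X Y : Scheme.{u}}

/-- A pseudo-coherent morphism is `m`-pseudo-coherent for every `m`. -/
theorem isNPseudoCoherent_of_perfectMor (f : X ⟶ Y) [LocallyOfFiniteType f] (hf : MoreMor.IsPerfectMor f)
    (m : ℤ) : DerSch.IsNPseudoCoherent f m :=
  isNPseudoCoherent_of_charts fun x => by
    obtain ⟨V, hV, hxV, -⟩ := exists_isAffineOpen_mem_and_subset (U := (⊤ : Y.Opens)) (x := f x) trivial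
    obtain ⟨U, hU, hxU, hUV⟩ := exists_isAffineOpen_mem_and_subset (U := f ⁻¹ᵁ V) (x := x) hxV
    letI := (f.appLE V U hUV).hom.toAlgebra
    obtain ⟨n, φ, hφ, h⟩ := (hf U V hU hV hUV).1
    exact ⟨U, V, hxU, hU, hV, hUV, n, φ.toRingHom, ⟨hφ, RingHom.ext φ.commutes⟩,
      (H9Misc.DRingPC.pc'_iff _).1 h m⟩

/-- `Rf_*` of a perfect object for a perfect morphism `X ↪ P^r_Y ⟶ Y`. -/
theorem isPerfect_rpush_proj_perfectMor (r : ℕ) (i : X ⟶ CohB1.ProjSpaceOver r Y) [IsClosedImmersion i]
    (hf : MoreMor.IsPerfectMor (i ≫ CohB1.ProjSpaceOver.toBase r Y))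
    [DCoh.HasRpush (i ≫ CohB1.ProjSpaceOver.toBase r Y)] {E : DCoh.D X} (hE : DCoh.IsPerfect E) :
    DCoh.IsPerfect ((DCoh.Rpush (i ≫ CohB1.ProjSpaceOver.toBase r Y)).obj E) := by
  let p := CohB1.ProjSpaceOver.toBase r Y
  let f := i ≫ p
  haveI : Smooth p := PnSmooth7.smooth_toBase r Y
  haveI : LocallyOfFiniteType p := inferInstance
  haveI : LocallyOfFiniteType f := inferInstance
  haveI := hasRpush_scheme i
  haveI := hasRpush_scheme p
  let F := DerivedCategory.Q.objPreimage E
  let eF : DCoh.toD X F ≅ E := DerivedCategory.Q.objObjPreimageIso E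
  have hFp : DCoh.IsPerfect (DCoh.toD X F) :=
    (KFlatLib.isPerfect_iff _).2 (((KFlatLib.isPerfect_iff E).1 hE).of_iso eF.symm)
  have hrel : DerSch.IsPerfectRel f F := by
    refine ⟨fun m => (rel_iff_abs f (isNPseudoCoherent_of_perfectMor f hf) _).2
      (((KFlatLib.isPerfect_iff _).1 hFp).locPC m), ?_⟩
    have := RelTor.locFiniteTorAmplitude_comp (𝟙 X) f (RelTor.locFiniteTorAmplitude_id_of_isPerfect hFp)
      (RelTor.locFiniteTorDim_of_isPerfectMor f hf)
    rwa [Category.id_comp] at this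
  have hP := (Groth.Agent.S6217.result i p F).1 hrel
  obtain ⟨e₁⟩ := nonempty_rpush_closed i F
  have hi : DCoh.IsPerfect ((DCoh.Rpush i).obj E) :=
    isPerfect_of_iso' ((DCoh.Rpush i).mapIso eF.symm ≪≫ e₁ ≪≫ pushDQ i F).symm hP
  exact isPerfect_of_iso' ((nonempty_rpush_comp i p).some.app E) (isPerfect_rpush_toBase Y hi)

end Groth.Agent.ProjGen7
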