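import Groth.Agent.ProjGen7.RelRpush
import Groth.Agent.Exact7.Proper
import Groth.Agent.QCoh.Support

/-!
# Relative pseudo-coherence of proper direct images over a locally Noetherian base
-/

set_option linter.style.haveILetI false
set_option backward.isDefEq.respectTransparency false

universe u

open CategoryTheory CategoryTheory.Limits AlgebraicGeometry

attribute [local instance] HasDerivedCategory.standard

noncomputable section

namespace Groth.Agent.ProjGen7

open Groth.Agent.KFlatLib Groth.Agent.PerfGen7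

variable {X Y S : Scheme.{u}}

/-- On a quasi-compact source a relatively pseudo-coherent object is bounded above. -/
theorem exists_isLE_of_rel [CompactSpace X] {f : X ⟶ S} {m : ℤ} {E : DCoh.D X}
    (hE : DerSch.IsPseudoCoherentRel f m E) : ∃ b : ℤ, E.IsLE b := by
  choose N b hxN hb using fun x : X => exists_nhd_isZero_stalk hE x
  obtain ⟨t, ht⟩ := isCompact_univ.elim_finite_subcover (fun x : X => ((N x : X.Opens) : Set X))
    (fun x => (N x).2) (fun x _ => Set.mem_iUnion.2 ⟨x, hxN x⟩)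
  refine ⟨((∑ x ∈ t, (b x).natAbs : ℕ) : ℤ), (DerivedCategory.isLE_iff E _).2 fun j hj =>
    isZero_of_stalk _ fun y => ?_⟩
  obtain ⟨x, hxt, hyx⟩ := Set.mem_iUnion₂.1 (ht (Set.mem_univ y))
  have hbx : (b x).natAbs ≤ ∑ x ∈ t, (b x).natAbs :=
    Finset.single_le_sum (f := fun x => (b x).natAbs) (fun _ _ => Nat.zero_le _) hxt
  have h0 := IsZero.of_iso (hb x y hyx j (by omega)) ((stalkForgetIso y).app (DCoh.HD E j))
  exact ModuleCat.isZero_iff_subsingleton.2 (AddCommGrpCat.subsingleton_of_isZero h0)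

/-- Proper direct images of coherent bounded objects over a Noetherian scheme are pseudo-coherent. -/
theorem locPC_rpush_of_cohD [IsNoetherian Y] (f : X ⟶ Y) [IsProper f] [DCoh.HasRpush f] (E : DCoh.D X)
    (a b : ℤ) [E.IsGE a] [E.IsLE b] (hc : ∀ i, Coh.IsCoh (DCoh.HD E i)) (m : ℤ) :
    LocPC m ((DCoh.Rpush f).obj E) := by
  haveI := LocallyOfFiniteType.isLocallyNoetherian f
  haveI : HasInjectiveResolutions X.Modules := hasInjectiveResolutions_modules
  have hgood : ∀ i, GoodMod f (DCoh.HD E i) := fun i => by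
    refine ⟨hc i, Or.inr ⟨QCoh.isClosed_support_of_isFT (hc i).1 (hc i).2, ?_⟩⟩
    infer_instance
  have hcoh := isCohD_rpush_of_isGE f E a hgood
  obtain ⟨N, hN⟩ := exists_rpush_shift_bound f
  exact locPC_of_coh (isCohD_isQCohD hcoh) (fun i _ => hcoh i) (b + N)
    fun i hi => hN E (fun k => (hc k).1) b inferInstance i hi.le

/-- Locally pseudo-coherent objects of a scheme locally of finite type over a locally Noetherian one
are relatively pseudo-coherent. -/
theorem rel_of_locPC [IsLocallyNoetherian S] (q : Y ⟶ S) [LocallyOfFiniteType q] {G : DCoh.D Y}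
    (hq : DCoh.IsQCohD G) (hG : ∀ m : ℤ, LocPC m G) : DerSch.IsPseudoCoherentRelAll q G := by
  haveI := LocallyOfFiniteType.isLocallyNoetherian q
  intro m
  refine isPseudoCoherentRel_iff.2 fun y => ?_
  obtain ⟨W, hW, hyW, -⟩ := exists_isAffineOpen_mem_and_subset (x := q y) (U := (⊤ : S.Opens)) trivial
  obtain ⟨V, hV, hyV, hVW⟩ := exists_isAffineOpen_mem_and_subset (x := y) (U := q ⁻¹ᵁ W) hyW
  obtain ⟨n, φ, hφ⟩ := exists_chart_of_affine (f := q) hV hW hVW
  refine ⟨V, W, hyV, hV, hW, hVW, n, φ, hφ, fun hc => ?_⟩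
  haveI := hc
  haveI : IsNoetherianRing Γ(S, W) := IsLocallyNoetherian.component_noetherian ⟨W, hW⟩
  haveI : IsNoetherianRing (MvPolynomial (Fin n) Γ(S, W)) := inferInstance
  haveI : IsAffine (V : Scheme.{u}) := hV
  have hqV : DCoh.IsQCohD ((rho V.ι).obj G) := isQCohD_rho _ hq
  have hcoh : ∀ i, Coh.IsCoh (DCoh.HD ((pushD (imm V φ)).obj ((rho V.ι).obj G)) i) := fun i =>
    isCoh_of_iso (pushDHD (imm V φ) _ i).symm
      (QCoh.isCoh_pushforward_finite (imm V φ) (isCoh_of_locPC hqV ((hG i).restrict V.ι) i le_rfl))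
  obtain ⟨b, hb⟩ := exists_bound_of_locPC ((hG m).restrict V.ι)
  exact locPC_of_coh (fun i => (hcoh i).1) (fun i _ => hcoh i) b fun i hi =>
    ((Scheme.Modules.pushforward (imm V φ)).map_isZero (hb i hi)).of_iso (pushDHD (imm V φ) _ i)

/-- Proper direct images of relatively pseudo-coherent bounded below objects. -/
theorem rel_rpush_proper [IsLocallyNoetherian S] (p : X ⟶ S) (q : Y ⟶ S) [LocallyOfFiniteType p]
    [LocallyOfFiniteType q] (f : X ⟶ Y) [IsProper f] [DCoh.HasRpush f] (E : DCoh.D X) (a : ℤ) [E.IsGE a]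
    (hE : DerSch.IsPseudoCoherentRelAll p E) :
    DerSch.IsPseudoCoherentRelAll q ((DCoh.Rpush f).obj E) := by
  haveI := LocallyOfFiniteType.isLocallyNoetherian q
  haveI := LocallyOfFiniteType.isLocallyNoetherian p
  have hc : ∀ i, Coh.IsCoh (DCoh.HD E i) := fun i => Exact7.isCoh_HD_of_rel hE i
  haveI : HasInjectiveResolutions X.Modules := hasInjectiveResolutions_modules
  have hgood : ∀ i, GoodMod f (DCoh.HD E i) := fun i => by
    refine ⟨hc i, Or.inr ⟨QCoh.isClosed_support_of_isFT (hc i).1 (hc i).2, ?_⟩⟩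
    infer_instance
  refine rel_of_locPC q (fun i => ((isCohD_rpush_of_isGE f E a hgood) i).1) fun m => ?_
  refine LocPC.of_local fun y => ?_
  obtain ⟨V, hV, hyV, -⟩ := exists_isAffineOpen_mem_and_subset (x := y) (U := (⊤ : Y.Opens)) trivial
  haveI : IsAffine (V : Scheme.{u}) := hV
  haveI : IsLocallyNoetherian (V : Scheme.{u}) := isLocallyNoetherian_of_isOpenImmersion V.ι
  haveI : IsNoetherian (V : Scheme.{u}) := {}
  haveI := hasRpush_scheme (f ∣_ V)
  haveI : CompactSpace ((f ⁻¹ᵁ V : X.Opens) : Scheme.{u}) :=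
    isCompact_iff_compactSpace.1 (f.isCompact_preimage hV.isCompact)
  obtain ⟨b, hb⟩ := exists_isLE_of_rel (rel_restrict (hE 0) (f ⁻¹ᵁ V).ι)
  haveI : ((rho (f ⁻¹ᵁ V).ι).obj E).IsLE b := hb
  haveI : ((rho (f ⁻¹ᵁ V).ι).obj E).IsGE a := (DerivedCategory.isGE_iff _ a).2 fun i hi =>
    ((Scheme.Modules.restrictFunctor (f ⁻¹ᵁ V).ι).map_isZero
      (DerivedCategory.isZero_of_isGE E a i hi)).of_iso (restrictHDIso _ E i)
  obtain ⟨e⟩ := nonempty_rpush_restrictD_iso f V
  exact ⟨_, V.ι, inferInstance, ⟨⟨y, hyV⟩, rfl⟩,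
    (locPC_rpush_of_cohD (f ∣_ V) _ a b (fun i => isCoh_of_iso (restrictHDIso _ E i).symm
      (isCoh_restrict _ (hc i))) m).of_iso (e.app E).symm⟩

end Groth.Agent.ProjGen7
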