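import Groth.Agent.ProjGen7.FlatBase
import Groth.Agent.PerfGen7.RelComp

/-!
# Relatively pseudo-coherent objects on closed subschemes of `P^r_Y`
-/

set_option linter.style.haveILetI false
set_option backward.isDefEq.respectTransparency false

universe u

open CategoryTheory CategoryTheory.Limits AlgebraicGeometry

attribute [local instance] HasDerivedCategory.standard

noncomputable section

namespace Groth.Agent.ProjGen7

open Groth.Agent.KFlatLib Groth.Agent.PerfGen7

variable {X Y T : Scheme.{u}}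

/-- `Ri_*` is the termwise direct image for a closed immersion. -/
theorem nonempty_rpush_closed (i : X ⟶ T) [IsClosedImmersion i] [DCoh.HasRpush i]
    (F : CochainComplex X.Modules ℤ) :
    Nonempty ((DCoh.Rpush i).obj (DerivedCategory.Q.obj F) ≅ (pushD i).obj (DerivedCategory.Q.obj F)) := by
  obtain ⟨I, φ, hI, hφ, -, -⟩ := Groth.Agent.TriCat.exists_kInjective_resolution'.{u} F
  haveI := hI
  haveI := hφ
  haveI := isIso_Q_map φ hφ
  obtain ⟨e⟩ := nonempty_rpush_iso_of_kInjective (f := i) (asIso (DerivedCategory.Q.map φ)).symm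
  exact ⟨e ≪≫ (pushDQ i I).symm ≪≫ (pushD i).mapIso (asIso (DerivedCategory.Q.map φ)).symm⟩

/-- `Ri_*` of any object for a closed immersion. -/
theorem nonempty_rpush_closed' (i : X ⟶ T) [IsClosedImmersion i] [DCoh.HasRpush i] (K : DCoh.D X) :
    Nonempty ((DCoh.Rpush i).obj K ≅ (pushD i).obj K) := by
  obtain ⟨e⟩ := nonempty_rpush_closed i (DerivedCategory.Q.objPreimage K)
  exact ⟨(DCoh.Rpush i).mapIso (repIso K).symm ≪≫ e ≪≫ (pushD i).mapIso (repIso K)⟩

/-- Pseudo-coherence relative to `X ⟶ P^r_Y ⟶ Y` is pseudo-coherence of the direct image on `P^r_Y`. -/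
theorem locPC_push_of_rel {r : ℕ} (i : X ⟶ CohB1.ProjSpaceOver r Y) [IsClosedImmersion i]
    {K : DCoh.D X} (h : DerSch.IsPseudoCoherentRelAll (i ≫ CohB1.ProjSpaceOver.toBase r Y) K) (m : ℤ) :
    LocPC m ((pushD i).obj K) :=
  (rel_closedImmersion_iff i K).1
    ((rel_comp_iff i _ (isNPseudoCoherent_of_flat _) K).1 (h m))

/-- Hence quasi-coherent cohomology. -/
theorem isQCohD_of_rel {r : ℕ} (i : X ⟶ CohB1.ProjSpaceOver r Y) [IsClosedImmersion i]
    {K : DCoh.D X} (h : DerSch.IsPseudoCoherentRelAll (i ≫ CohB1.ProjSpaceOver.toBase r Y) K) :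
    DCoh.IsQCohD K := fun j => by
  have hq := isQCoh_of_iso (pushDHD i K j) (isQCoh_HD_of_pseudoCoherent
    ((isPseudoCoherentD_iff _ _).2 (locPC_push_of_rel i h (j - 1))) j (by omega))
  haveI := Groth.Agent.KZ.ClosedDev.isIso_counit i hq
  exact isQCoh_of_iso (asIso ((Scheme.Modules.pullbackPushforwardAdjunction i).counit.app (DCoh.HD K j)))
    (Groth.Agent.QCoh.isQCoh_pullback i hq)

/-- The direct image on `Y` is pseudo-coherent. -/
theorem locPC_rpush_of_rel_pn {r : ℕ} (i : X ⟶ CohB1.ProjSpaceOver r Y) [IsClosedImmersion i]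
    [DCoh.HasRpush (i ≫ CohB1.ProjSpaceOver.toBase r Y)] (F : CochainComplex X.Modules ℤ)
    (h : DerSch.IsPseudoCoherentRelAll (i ≫ CohB1.ProjSpaceOver.toBase r Y) (DCoh.toD X F)) (m : ℤ) :
    LocPC m ((DCoh.Rpush (i ≫ CohB1.ProjSpaceOver.toBase r Y)).obj (DCoh.toD X F)) := by
  haveI := hasRpush_scheme i
  haveI := hasRpush_scheme (CohB1.ProjSpaceOver.toBase r Y)
  obtain ⟨c⟩ := nonempty_rpush_comp i (CohB1.ProjSpaceOver.toBase r Y)
  obtain ⟨e⟩ := nonempty_rpush_closed i F
  exact (locPC_rpush_toBase Y (locPC_push_of_rel i h) m).of_iso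
    ((DCoh.Rpush (CohB1.ProjSpaceOver.toBase r Y)).mapIso e.symm ≪≫ c.app _)

end Groth.Agent.ProjGen7
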