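import Groth.Agent.ProjGen7.RelPn
import Groth.Agent.PerfGen7.RelOpen
import Groth.Agent.PerfGen7.FlatTerms
import Groth.Agent.PerfGen7.RelModuleFP
import Groth.Agent.PerfGen7.RelTor.Abs

/-!
# Relative pseudo-coherence and finite tor amplitude of direct images along closed subschemes of `P^r_Y`
-/

set_option linter.style.haveILetI false
set_option backward.isDefEq.respectTransparency false

universe u

open CategoryTheory CategoryTheory.Limits AlgebraicGeometry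

attribute [local instance] HasDerivedCategory.standard

noncomputable section

namespace Groth.Agent.ProjGen7

open Groth.Agent.KFlatLib Groth.Agent.PerfGen7

variable {X Y S : Scheme.{u}}

/-- Relative pseudo-coherence restricts to opens of the source. -/
theorem rel_restrict {f : X ⟶ S} [LocallyOfFiniteType f] {m : ℤ} {K : DCoh.D X}
    (h : DerSch.IsPseudoCoherentRel f m K) {X' : Scheme.{u}} (j : X' ⟶ X) [IsOpenImmersion j] :
    DerSch.IsPseudoCoherentRel (j ≫ f) m ((rho j).obj K) := by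
  refine isPseudoCoherentRel_iff.2 fun z => ?_
  obtain ⟨V, hV, hzV, -⟩ := exists_isAffineOpen_mem_and_subset (x := f (j z)) (U := (⊤ : S.Opens)) trivial
  obtain ⟨W, hW, hzW, hWV⟩ := exists_isAffineOpen_mem_and_subset (x := z) (U := j ⁻¹ᵁ (f ⁻¹ᵁ V)) hzV
  have hW' : IsAffineOpen (j ''ᵁ W) := hW.image_of_isOpenImmersion j
  have hle : j ''ᵁ W ≤ f ⁻¹ᵁ V := by
    rintro _ ⟨w, hw, rfl⟩
    exact hWV hw
  obtain ⟨n, φ, hφ⟩ := exists_chart_of_affine (f := f) hW' hV hle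
  exact ⟨W, V, hzW, (goodPair_image_iff j (j ≫ f) rfl K hW V).2
    ⟨hW', hV, hle, n, φ, hφ, (chartPC_iff hW' φ hφ.1).1 (chartPC_of_rel h hW' hV hle φ hφ)⟩⟩

/-- `Spec R[T₁, …, T_k] ⟶ Spec R` is flat and locally of finite presentation. -/
theorem flat_lfp_poly (R : Type u) [CommRing R] (k : ℕ) :
    Flat (Spec.map (CommRingCat.ofHom (MvPolynomial.C : R →+* MvPolynomial (Fin k) R))) ∧
      LocallyOfFinitePresentation
        (Spec.map (CommRingCat.ofHom (MvPolynomial.C : R →+* MvPolynomial (Fin k) R))) := by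
  refine ⟨(HasRingHomProperty.Spec_iff (P := @Flat)).2 ?_,
    (HasRingHomProperty.Spec_iff (P := @LocallyOfFinitePresentation)).2 ?_⟩
  · exact RingHom.flat_algebraMap_iff.2 (inferInstanceAs (Module.Flat R (MvPolynomial (Fin k) R)))
  · exact RingHom.finitePresentation_algebraMap.2
      (inferInstanceAs (Algebra.FinitePresentation R (MvPolynomial (Fin k) R)))

/-- Direct images along closed subschemes of `P^r_Y` preserve relative pseudo-coherence. -/
theorem rel_rpush_pn {r : ℕ} (i : X ⟶ CohB1.ProjSpaceOver r Y) [IsClosedImmersion i]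
    (q : Y ⟶ S) [LocallyOfFiniteType q] [DCoh.HasRpush (i ≫ CohB1.ProjSpaceOver.toBase r Y)]
    {K : DCoh.D X}
    (hK : DerSch.IsPseudoCoherentRelAll ((i ≫ CohB1.ProjSpaceOver.toBase r Y) ≫ q) K) :
    DerSch.IsPseudoCoherentRelAll q ((DCoh.Rpush (i ≫ CohB1.ProjSpaceOver.toBase r Y)).obj K) := by
  intro m
  let p := CohB1.ProjSpaceOver.toBase r Y
  haveI := hasRpush_scheme i
  haveI := hasRpush_scheme p
  obtain ⟨cf⟩ := nonempty_rpush_comp i p
  obtain ⟨ei⟩ := nonempty_rpush_closed' i K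
  refine rel_of_iso ((DCoh.Rpush p).mapIso ei.symm ≪≫ cf.app K) (isPseudoCoherentRel_iff.2 fun y => ?_)
  obtain ⟨W, hW, hyW, -⟩ := exists_isAffineOpen_mem_and_subset (x := q y) (U := (⊤ : S.Opens)) trivial
  obtain ⟨V, hV, hyV, hVW⟩ := exists_isAffineOpen_mem_and_subset (x := y) (U := q ⁻¹ᵁ W) hyW
  obtain ⟨n, φ, hφ⟩ := exists_chart_of_affine (f := q) hV hW hVW
  refine ⟨V, W, hyV, hV, hW, hVW, n, φ, hφ, fun hc => ?_⟩
  let R := MvPolynomial (Fin n) Γ(S, W)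
  let c := imm V φ
  haveI : IsClosedImmersion c := hc
  let A := Spec (CommRingCat.of R)
  let g : A ⟶ S := Spec.map (CommRingCat.ofHom (MvPolynomial.C : Γ(S, W) →+* R)) ≫ hW.fromSpec
  haveI := (flat_lfp_poly Γ(S, W) n).1
  haveI := (flat_lfp_poly Γ(S, W) n).2
  have hcg : c ≫ g = V.ι ≫ q := by
    simp only [c, g, imm, Category.assoc]
    rw [← Spec.map_comp_assoc, ← CommRingCat.ofHom_comp, hφ.2, CommRingCat.ofHom_hom,
      hW.SpecMap_appLE_fromSpec q hV hVW, IsAffineOpen.toSpecΓ_fromSpec_assoc]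
  let pA := CohB1.ProjSpaceOver.toBase r A
  let P' := p ⁻¹ᵁ V
  let c' : (P' : Scheme.{u}) ⟶ CohB1.ProjSpaceOver r A :=
    pullback.lift (P'.ι ≫ pullback.fst (CohB1.ProjSpace.toSpec r (ULift.{u} ℤ))
      (specULiftZIsTerminal.from Y)) ((p ∣_ V) ≫ c) (specULiftZIsTerminal.hom_ext _ _)
  have hc'₂ : c' ≫ pA = (p ∣_ V) ≫ c := pullback.lift_snd _ _ _
  have hc'₁ : c' ≫ pullback.fst (CohB1.ProjSpace.toSpec r (ULift.{u} ℤ)) (specULiftZIsTerminal.from A) =
      P'.ι ≫ pullback.fst (CohB1.ProjSpace.toSpec r (ULift.{u} ℤ)) (specULiftZIsTerminal.from Y) :=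
    pullback.lift_fst _ _ _
  have hsq : IsPullback c' (p ∣_ V) pA c := by
    refine IsPullback.of_right ?_ hc'₂
      (IsPullback.of_hasPullback (CohB1.ProjSpace.toSpec r (ULift.{u} ℤ)) (specULiftZIsTerminal.from A))
    rw [hc'₁, specULiftZIsTerminal.hom_ext (c ≫ specULiftZIsTerminal.from A)
      (V.ι ≫ specULiftZIsTerminal.from Y)]
    exact (isPullback_morphismRestrict p V).flip.paste_horiz
      (IsPullback.of_hasPullback (CohB1.ProjSpace.toSpec r (ULift.{u} ℤ)) (specULiftZIsTerminal.from Y))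
  haveI : IsClosedImmersion c' := MorphismProperty.of_isPullback hsq.flip hc
  let s := i ∣_ P'
  haveI : IsClosedImmersion (s ≫ c') := inferInstance
  have hrel : ∀ k : ℤ, DerSch.IsPseudoCoherentRel ((s ≫ c') ≫ pA ≫ g) k
      ((rho (i ⁻¹ᵁ P').ι).obj K) := fun k => by
    have h1 := rel_restrict (hK k) (i ⁻¹ᵁ P').ι
    have : (s ≫ c') ≫ pA ≫ g = (i ⁻¹ᵁ P').ι ≫ (i ≫ p) ≫ q :=
      calc (s ≫ c') ≫ pA ≫ g = s ≫ (c' ≫ pA) ≫ g := by simp only [Category.assoc]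
        _ = s ≫ ((p ∣_ V) ≫ c) ≫ g := by rw [hc'₂]
        _ = s ≫ (p ∣_ V) ≫ V.ι ≫ q := by rw [Category.assoc, hcg]
        _ = s ≫ P'.ι ≫ p ≫ q := by rw [morphismRestrict_ι_assoc]
        _ = _ := by simp only [s, morphismRestrict_ι_assoc, Category.assoc]
    rw [this]
    exact h1
  haveI : Flat g := inferInstance
  haveI : LocallyOfFinitePresentation g := inferInstance
  haveI : Flat (pA ≫ g) := inferInstance
  haveI : LocallyOfFinitePresentation (pA ≫ g) := inferInstance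
  have hpc : ∀ k : ℤ, LocPC k ((pushD c').obj ((rho P'.ι).obj ((pushD i).obj K))) := fun k =>
    ((rel_closedImmersion_iff (s ≫ c') _).1
      ((rel_comp_iff (s ≫ c') (pA ≫ g) (isNPseudoCoherent_of_flat _) _).1 (hrel k))).of_iso
        ((pushD c').mapIso (pushDRestrict i P' K) ≪≫ pushDComp s c' (s ≫ c') rfl _).symm
  haveI := hasRpush_scheme (p ∣_ V)
  haveI := hasRpush_scheme c
  haveI := hasRpush_scheme c'
  haveI := hasRpush_scheme pA
  haveI := hasRpush_scheme (c' ≫ pA)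
  haveI := hasRpush_scheme ((p ∣_ V) ≫ c)
  obtain ⟨e₁⟩ := nonempty_rpush_restrictD_iso p V
  obtain ⟨e₂⟩ := nonempty_rpush_closed' c ((DCoh.Rpush (p ∣_ V)).obj ((rho P'.ι).obj ((pushD i).obj K)))
  obtain ⟨e₃⟩ := nonempty_rpush_comp (p ∣_ V) c
  obtain ⟨e₄⟩ := nonempty_rpush_comp c' pA
  obtain ⟨e₅⟩ := nonempty_rpush_closed' c' ((rho P'.ι).obj ((pushD i).obj K))
  exact (locPC_rpush_toBase A hpc m).of_iso
    ((DCoh.Rpush pA).mapIso e₅.symm ≪≫ e₄.app _ ≪≫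
      (eqToIso (by congr 1 : DCoh.Rpush (c' ≫ pA) = DCoh.Rpush ((p ∣_ V) ≫ c))).app _ ≪≫
      (e₃.app _).symm ≪≫ e₂ ≪≫ (pushD c).mapIso (e₁.app _).symm)

/-- Direct images preserve local finiteness of relative tor amplitude. -/
theorem locFiniteTorAmplitude_rpush_lft (q : Y ⟶ S) (f : X ⟶ Y) [QuasiCompact f] [QuasiSeparated f]
    [DCoh.HasRpush f] {F : CochainComplex X.Modules ℤ} (hq : DCoh.IsQCohD (DCoh.toD X F))
    (hF : DerSch.LocFiniteTorAmplitude (f ≫ q) F) (G : CochainComplex Y.Modules ℤ)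
    (eG : DCoh.toD Y G ≅ (DCoh.Rpush f).obj (DCoh.toD X F)) :
    DerSch.LocFiniteTorAmplitude q G := fun y => by
  obtain ⟨V, hV, hyV, -⟩ := exists_isAffineOpen_mem_and_subset (x := q y) (U := (⊤ : S.Opens)) trivial
  obtain ⟨U, hU, hyU, hUV⟩ := exists_isAffineOpen_mem_and_subset (x := y) (U := q ⁻¹ᵁ V) hyV
  haveI : IsAffine (U : Scheme.{u}) := hU
  haveI : IsAffine (V : Scheme.{u}) := hV
  haveI := hasRpush_scheme (f ∣_ U)
  let q' : (U : Scheme.{u}) ⟶ (V : Scheme.{u}) := Y.homOfLE hUV ≫ (q ∣_ V)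
  have hq' : q' ≫ V.ι = U.ι ≫ q := by
    simp only [q', Category.assoc, morphismRestrict_ι, Scheme.homOfLE_ι_assoc]
  obtain ⟨N, hN⟩ := RelTor.exists_torAmplitudeAt_rpush ((f ∣_ U) ≫ q') q' (f ∣_ U) rfl
  obtain ⟨a, b, -, hab⟩ := RelTor.exists_interval_of_isCompact (f ≫ q) hF
    (f.isCompact_preimage hU.isCompact)
  obtain ⟨c⟩ := nonempty_rpush_restrictD_iso f U
  refine ⟨U, a, b + N, hyU, fun y' hy' => ?_⟩
  have hcomp : ((f ∣_ U) ≫ q') ≫ V.ι = (f ⁻¹ᵁ U).ι ≫ f ≫ q := by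
    rw [Category.assoc, hq', morphismRestrict_ι_assoc]
  have hF' : DerSch.HasTorAmplitude ((f ∣_ U) ≫ q') a b ((rCx (f ⁻¹ᵁ U).ι).obj F) := fun x => by
    refine RelTor.torAmplitudeAt_of_comp_openImmersion _ V.ι ?_
    rw [hcomp]
    exact RelTor.torAmplitudeAt_restrict (f ≫ q) (f ⁻¹ᵁ U).ι x (hab _ x.2)
  have hG' := hN (F := (rCx (f ⁻¹ᵁ U).ι).obj F)
    (isQCohD_of_iso ((rhoQ (f ⁻¹ᵁ U).ι).app F) (isQCohD_rho _ hq)) hF' ((rCx U.ι).obj G)
    ⟨((rhoQ U.ι).app G).symm ≪≫ (rho U.ι).mapIso eG ≪≫ c.app _ ≪≫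
      (DCoh.Rpush (f ∣_ U)).mapIso ((rhoQ (f ⁻¹ᵁ U).ι).app F)⟩ ⟨y', hy'⟩
  refine RelTor.torAmplitudeAt_unrestrict q U.ι ⟨y', hy'⟩ ?_
  rw [← hq']
  exact RelTor.torAmplitudeAt_comp_openImmersion _ V.ι hG'

end Groth.Agent.ProjGen7
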