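import Groth.Agent.ProjGen7.RpushTwist
import Groth.Agent.PerfGen7.RpushPC

/-!
# Direct images of perfect and pseudo-coherent objects along `P^n_A ⟶ Spec A`
-/

set_option linter.style.haveILetI false
set_option backward.isDefEq.respectTransparency false

universe u

open CategoryTheory CategoryTheory.Limits AlgebraicGeometry Pretriangulated ZeroObject

attribute [local instance] HasDerivedCategory.standard

noncomputable section

namespace Groth.Agent.ProjGen7

open Groth.Agent.KFlatLib Groth.Agent.PerfGen7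

variable {X Y : Scheme.{u}} (f : X ⟶ Y) [DCoh.HasRpush f]

theorem isZero_rpush {A : DCoh.D X} (h : IsZero A) : IsZero ((DCoh.Rpush f).obj A) := by
  haveI := hasLpull f
  obtain ⟨adj⟩ := nonempty_lpull_rpush_adj f
  haveI := adj.rightAdjoint_preservesLimits
  haveI : (DCoh.Rpush f).PreservesZeroMorphisms :=
    Functor.preservesZeroMorphisms_of_map_zero_object
      (IsTerminal.uniqueUpToIso (IsTerminal.isTerminalObj (DCoh.Rpush f) _
        (HasZeroObject.zeroIsTerminal)) HasZeroObject.zeroIsTerminal)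
  exact (DCoh.Rpush f).map_isZero h

/-- Perfect objects with perfect direct image. -/
def PP : ObjectProperty (DCoh.D X) := fun A =>
  DCoh.IsPerfect A ∧ DCoh.IsPerfect ((DCoh.Rpush f).obj A)

instance : (PP f).IsClosedUnderIsomorphisms :=
  ⟨fun e h => ⟨isPerfect_of_iso' e h.1, isPerfect_of_iso' ((DCoh.Rpush f).mapIso e) h.2⟩⟩

instance : (PP f).IsTriangulated where
  exists_zero := ⟨0, isZero_zero _, isPerfect_of_isZero' (isZero_zero _),
    isPerfect_of_isZero' (isZero_rpush f (isZero_zero _))⟩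
  isStableUnderShiftBy n := ⟨fun A h => ⟨isPerfect_shift' h.1 n,
    isPerfect_of_iso' (nonempty_rpush_shift f A n).some.symm (isPerfect_shift' h.2 n)⟩⟩
  ext₂' T hT h₁ h₃ := ObjectProperty.le_isoClosure _ _ ⟨isPerfect_tri₂ hT h₁.1 h₃.1, by
    obtain ⟨c, hc⟩ := exists_rpush_triangle f T hT
    exact isPerfect_tri₂ hc h₁.2 h₃.2⟩

/-- If a detecting object is in `PP f`, all perfect objects are. -/
theorem pp_of_gen [CompactSpace X] [QuasiSeparatedSpace X] {P : DCoh.D X} (hP : PP f P)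
    (hdet : ∀ E : DCoh.D X, DCoh.IsQCohD E → (∀ (n : ℤ) (φ : P⟦n⟧ ⟶ E), φ = 0) → IsZero E)
    {E : DCoh.D X} (hE : DCoh.IsPerfect E) : DCoh.IsPerfect ((DCoh.Rpush f).obj E) := by
  have hs : ∀ A : DCoh.D X, Supp A Set.univ := fun A => supp_iff.2 fun y hy => (hy trivial).elim
  haveI : ∀ J : Type u, HasColimitsOfShape (Discrete J) (DCoh.D X) :=
    fun J => TriCat.hasColimitsOfShape_derivedCategory
  obtain ⟨A, g, k, hA, hgh⟩ := exists_factor_gen isClosed_univ (PP f) (fun B hB => ⟨hB.1, hs B⟩) hP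
    (fun E hE _ => hdet E hE) ⟨isQCohD_of_isPerfect hE, hs E⟩ (cpt_of_isPerfect _ hE) (𝟙 E)
  obtain ⟨Z, z, dz, hZ⟩ := distinguished_cocone_triangle g
  obtain ⟨d, hd⟩ := exists_rpush_triangle f _ hZ
  haveI : Mono ((DCoh.Rpush f).map g) := SplitMono.mono ⟨(DCoh.Rpush f).map k,
    (Functor.map_comp _ _ _).symm.trans ((congrArg _ hgh).trans (CategoryTheory.Functor.map_id _ _))⟩
  obtain ⟨e, -, -⟩ := exists_iso_binaryBiproduct_of_distTriang _ hd
    (Triangle.mor₃_eq_zero_of_mono₁ _ hd ‹_›)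
  exact (KFlatLib.isPerfect_iff _).2
    (locSP_summand _ _ (((KFlatLib.isPerfect_iff _).1 hA.2).of_iso e)).1

section Pn

variable (n : ℕ) (A : Type u) [CommRing A] [DCoh.HasRpush (CohB1.ProjSpace.toSpec n A)]

theorem exists_detecting : ∀ k : ℕ, k ≤ n → ∃ P : DCoh.D (CohB1.ProjSpace n A),
    PP (CohB1.ProjSpace.toSpec n A) P ∧ ∀ E : DCoh.D (CohB1.ProjSpace n A),
      (∀ (m : ℤ) (φ : P⟦m⟧ ⟶ E), φ = 0) →
        ∀ d : ℕ, d ≤ k → Orth E (DCoh.inD _ (Twist.twistProjSpace n A (-(d : ℤ)))) := by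
  have hpp : ∀ d : ℕ, d ≤ n → PP (CohB1.ProjSpace.toSpec n A)
      (DCoh.inD _ (Twist.twistProjSpace n A (-(d : ℤ)))) := fun d hd =>
    ⟨isPerfect_test (testFam_twist (𝒜 := CohB1.polyGrading n A) (coord'_mem n A) (iSup_coord' n A)) d,
      isPerfect_rpush_twist n A d hd⟩
  intro k
  induction k with
  | zero =>
    intro _
    refine ⟨_, hpp 0 (Nat.zero_le n), fun E h d hd => ?_⟩
    obtain rfl : d = 0 := by omega
    exact h
  | succ k ih =>
    intro hk
    obtain ⟨P, hP, hdet⟩ := ih (by omega)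
    let L := DCoh.inD (CohB1.ProjSpace n A) (Twist.twistProjSpace n A (-((k + 1 : ℕ) : ℤ)))
    refine ⟨P ⊞ L, (PP _).ext_of_isTriangulatedClosed₂ _
      (binaryBiproductTriangle_distinguished _ _) hP (hpp (k + 1) hk), fun E h => ?_⟩
    have h₁ : ∀ (m : ℤ) (φ : P⟦m⟧ ⟶ E), φ = 0 := fun m φ => by
      haveI : Epi ((shiftFunctor _ m).map (biprod.fst : P ⊞ L ⟶ P)) :=
        SplitEpi.epi ⟨(shiftFunctor _ m).map biprod.inl,
          by rw [← Functor.map_comp, biprod.inl_fst, CategoryTheory.Functor.map_id]⟩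
      exact (cancel_epi ((shiftFunctor _ m).map (biprod.fst : P ⊞ L ⟶ P))).1
        ((h m _).trans comp_zero.symm)
    have h₂ : Orth E L := fun m φ => by
      haveI : Epi ((shiftFunctor _ m).map (biprod.snd : P ⊞ L ⟶ L)) :=
        SplitEpi.epi ⟨(shiftFunctor _ m).map biprod.inr,
          by rw [← Functor.map_comp, biprod.inr_snd, CategoryTheory.Functor.map_id]⟩
      exact (cancel_epi ((shiftFunctor _ m).map (biprod.snd : P ⊞ L ⟶ L))).1
        ((h m _).trans comp_zero.symm)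
    intro d hd
    rcases Nat.lt_or_ge d (k + 1) with h' | h'
    · exact hdet E h₁ d (by omega)
    · obtain rfl : d = k + 1 := by omega
      exact h₂

/-- `Rπ_*` of a perfect object on `P^n_A` is perfect, for any ring `A`. -/
theorem isPerfect_rpush_Pn {E : DCoh.D (CohB1.ProjSpace n A)} (hE : DCoh.IsPerfect E) :
    DCoh.IsPerfect ((DCoh.Rpush (CohB1.ProjSpace.toSpec n A)).obj E) := by
  haveI : IsProper (CohB1.ProjSpace.toSpec n A) := PnCoh.Chow.isProper_toSpec n A
  haveI : CompactSpace (CohB1.ProjSpace n A) :=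
    QuasiCompact.compactSpace_of_compactSpace (CohB1.ProjSpace.toSpec n A)
  haveI : QuasiSeparatedSpace (CohB1.ProjSpace n A) :=
    quasiSeparatedSpace_of_quasiSeparated (CohB1.ProjSpace.toSpec n A)
  obtain ⟨P, hP, hdet⟩ := exists_detecting n A n le_rfl
  exact pp_of_gen _ hP (fun E' hq h => isZero_of_window n A hq (hdet E' h)) hE

end Pn

/-- If direct images of perfect objects are perfect, those of pseudo-coherent ones are pseudo-coherent. -/
theorem locPC_rpush_of_perfect [QuasiCompact f] [QuasiSeparated f] [CompactSpace Y] [CompactSpace X]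
    [QuasiSeparatedSpace X]
    (h : ∀ E : DCoh.D X, DCoh.IsPerfect E → DCoh.IsPerfect ((DCoh.Rpush f).obj E))
    {E : DCoh.D X} (hE : ∀ m : ℤ, DCoh.IsPseudoCoherentD m E) (m : ℤ) :
    LocPC m ((DCoh.Rpush f).obj E) := by
  have hq : DCoh.IsQCohD E := fun i => isQCoh_HD_of_pseudoCoherent (hE (i - 1)) i (by omega)
  obtain ⟨N, hN⟩ := exists_rpush_shift_bound f
  obtain ⟨r, hr⟩ := hasAppr (X := X) Set.univ isClosed_univ
    (isRetrocompact_of_isCompact isClosed_univ.isOpen_compl (by simp))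
  obtain ⟨P, α, C, g, d, hτ, hP, -, hC⟩ := hr (m + 1 - N) E hq (hE _) fun i _ => Set.subset_univ _
  haveI : C.IsLE (m - N) := by
    rw [DerivedCategory.isLE_iff]
    exact fun i hi => hC i (by omega)
  obtain ⟨c, hc⟩ := exists_rpush_triangle f _ hτ
  obtain ⟨eS⟩ := nonempty_rpush_shift f P 1
  have r₂ : LocPC m ((DCoh.Rpush f).obj C) := locPC_of_isZero m _ fun i hi =>
    hN C (isQCohD_obj₃ hτ (isQCohD_of_isPerfect hP) hq) (m - N) inferInstance i (by omega)
  have r₁ : LocPC m ((DCoh.Rpush f).obj P) := (((KFlatLib.isPerfect_iff _).1 (h P hP))).locPC m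
  exact (locPC_two_of_three m _ hc).2.1 r₁ r₂

end Groth.Agent.ProjGen7
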